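/-
A rank one set-up on a normal subgroup `K`, seen in the group `X = H K` acting on `X / H`
(owner: helper56).

* `exists_smul_b` : the kernel of the set-up is transitive on the other points of `X / H`
* `eq_one_of_fix_commute` : what fixes two points and centralises the kernel is trivial
* `exists_mul_fix`, `index_eq`, `mem_dd_iff`.
-/
import Cfsg.Agent.Lib.RankOne.Setup
import Cfsg.Agent.Lib.Bender.Final

set_option autoImplicit false
set_option linter.style.haveILetI false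
set_option linter.unusedSectionVars false

namespace Cfsg.Agent.CentralMeet

open Cfsg MulAction

universe u

variable {X : Type u} [Group X] [Finite X] {K Hb : Subgroup X} [K.Normal] {t' : ↥K}
  {Q : Subgroup ↥K}
  (h : Cfsg.IsRankOneSetup ↥K (↥K ⧸ Hb.subgroupOf K) ((1 : ↥K) : ↥K ⧸ Hb.subgroupOf K) t' Q)
include h

/-- The second point is not the base point. -/
theorem t_not_mem : (t' : X) ∉ Hb := fun hm => h.not_mem (by
  rw [stabilizer_quotient]; exact Subgroup.mem_subgroupOf.2 hm)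

theorem kernel_le {u : ↥K} (hu : u ∈ Q) : (u : X) ∈ Hb := by
  have := h.le hu
  rwa [stabilizer_quotient, Subgroup.mem_subgroupOf] at this

theorem smul_t_eq {u : ↥K} {x : ↥K} :
    (u • t' • ((1 : ↥K) : ↥K ⧸ Hb.subgroupOf K) = (x : ↥K ⧸ Hb.subgroupOf K)) ↔
      (((u : X) * (t' : X) : X) : X ⧸ Hb) = ((x : X) : X ⧸ Hb) := by
  rw [MulAction.Quotient.smul_mk, MulAction.Quotient.smul_mk, QuotientGroup.eq, QuotientGroup.eq,
    Subgroup.mem_subgroupOf]
  simp [mul_assoc]

variable (htop : K ⊔ Hb = ⊤)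
include htop

theorem exists_smul_b {p : X ⧸ Hb} (hp : p ≠ ((1 : X) : X ⧸ Hb)) :
    ∃ u ∈ Q, (u : X) • ((t' : X) : X ⧸ Hb) = p := by
  induction p using QuotientGroup.induction_on with | _ x =>
  obtain ⟨k, hk, g, hg, rfl⟩ := Subgroup.mem_sup_of_normal_left.1 (htop.ge (Subgroup.mem_top x))
  have hmk : ((k * g : X) : X ⧸ Hb) = ((k : X) : X ⧸ Hb) := QuotientGroup.eq.2 (by
    simpa [mul_assoc] using inv_mem hg)
  rw [hmk] at hp ⊢
  obtain ⟨u, hu, he⟩ := RankOne.Setup.exists_smul_eq h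
    (b := ((⟨k, hk⟩ : ↥K) : ↥K ⧸ Hb.subgroupOf K)) (fun e => hp (QuotientGroup.eq.2 (by
      have := QuotientGroup.eq.1 e
      simpa [Subgroup.mem_subgroupOf] using this)))
  exact ⟨u, hu, (smul_t_eq h).1 he⟩

/-- What fixes the two points and centralises the kernel is trivial. -/
theorem eq_one_of_fix_commute (hcore : Hb.normalCore = ⊥) {y : X} (hy : y ∈ Hb)
    (hb : y • ((t' : X) : X ⧸ Hb) = ((t' : X) : X ⧸ Hb)) (hc : ∀ u ∈ Q, Commute y (u : X)) :
    y = 1 := by
  haveI := Bender.faithful_of_normalCore hcore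
  refine eq_of_smul_eq_smul (α := X ⧸ Hb) fun p => ?_
  rw [one_smul]
  by_cases hp : p = ((1 : X) : X ⧸ Hb)
  · rw [hp, MulAction.Quotient.smul_mk, QuotientGroup.eq, smul_eq_mul, mul_one, mul_one]
    exact inv_mem hy
  · obtain ⟨u, hu, rfl⟩ := exists_smul_b h htop hp
    rw [← mul_smul, (hc u hu).eq, mul_smul, hb]

/-- Modulo the kernel every element of `Hb` fixes both points. -/
theorem exists_mul_fix {s : X} (hs : s ∈ Hb) :
    ∃ u ∈ Q, ((u : X)⁻¹ * s) • ((t' : X) : X ⧸ Hb) = ((t' : X) : X ⧸ Hb) := by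
  have hne : s • ((t' : X) : X ⧸ Hb) ≠ ((1 : X) : X ⧸ Hb) := by
    rw [MulAction.Quotient.smul_mk, Ne, QuotientGroup.eq]
    intro hm
    refine t_not_mem h ?_
    rw [smul_eq_mul, mul_inv_rev, mul_one] at hm
    simpa [mul_assoc] using inv_mem (mul_mem hm hs)
  obtain ⟨u, hu, he⟩ := exists_smul_b h htop hne
  exact ⟨u, hu, by rw [mul_smul, ← he, inv_smul_smul]⟩

theorem index_eq : Hb.index = Nat.card Q + 1 := by
  rw [← RankOne.Setup.card_omega h, Subgroup.index]
  let φ : ↥K ⧸ Hb.subgroupOf K → X ⧸ Hb :=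
    Quotient.lift (fun k : ↥K => ((k : X) : X ⧸ Hb)) fun a b e => QuotientGroup.eq.2 (by
      have := Subgroup.mem_subgroupOf.1 (QuotientGroup.leftRel_apply.1 e)
      simpa using this)
  refine (Nat.card_eq_of_bijective φ ⟨?_, fun p => ?_⟩).symm
  · intro a b
    induction a using QuotientGroup.induction_on with | _ a =>
    induction b using QuotientGroup.induction_on with | _ b =>
    intro e
    refine QuotientGroup.eq.2 (Subgroup.mem_subgroupOf.2 ?_)
    simpa using QuotientGroup.eq.1 (show ((a : X) : X ⧸ Hb) = ((b : X) : X ⧸ Hb) from e)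
  · induction p using QuotientGroup.induction_on with | _ x =>
    obtain ⟨k, hk, g, hg, rfl⟩ := Subgroup.mem_sup_of_normal_left.1 (htop.ge (Subgroup.mem_top x))
    exact ⟨((⟨k, hk⟩ : ↥K) : ↥K ⧸ Hb.subgroupOf K), QuotientGroup.eq.2 (by simpa using hg)⟩

omit htop in
theorem mem_dd_iff (k : ↥K) :
    k ∈ stabilizer ↥K ((1 : ↥K) : ↥K ⧸ Hb.subgroupOf K) ⊓
        stabilizer ↥K (t' • ((1 : ↥K) : ↥K ⧸ Hb.subgroupOf K)) ↔
      (k : X) ∈ Hb ∧ (k : X) • ((t' : X) : X ⧸ Hb) = ((t' : X) : X ⧸ Hb) := by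
  rw [Subgroup.mem_inf, stabilizer_quotient, Subgroup.mem_subgroupOf, mem_stabilizer_iff]
  refine and_congr_right fun _ => ?_
  have e : t' • ((1 : ↥K) : ↥K ⧸ Hb.subgroupOf K) = (t' : ↥K ⧸ Hb.subgroupOf K) := by
    rw [MulAction.Quotient.smul_mk, smul_eq_mul, mul_one]
  rw [e, MulAction.Quotient.smul_mk, MulAction.Quotient.smul_mk, QuotientGroup.eq, QuotientGroup.eq,
    Subgroup.mem_subgroupOf]
  simp [mul_assoc]

end Cfsg.Agent.CentralMeet
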