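/-
Groups in which central intersections of distinct Sylow 2-subgroups have 2-rank at most one:
the elementary consequences (owner: helper56).

* `RankOneMeet G` : the hypothesis of S3185.
* `eq_of_pair` : two commuting involutions, one of them or their product 2-central, lie in at most
  one Sylow 2-subgroup.
* `mem_omega` : a 2-central involution of `S` is central in `S`.
* `omega_four_le` : `Ω₁Z(S)` has order at least four in a simple group.
* `exists_normalizer_conj` : fusion in `Ω₁Z(S)` is controlled by `N(S)`.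
* `omega_stronglyClosed` : `Ω₁Z(S)` is strongly closed in `S`.
-/
import Cfsg.Agent.Lib.NormEven.Tools
import Cfsg.Agent.Lib.Bender.Setup
import Cfsg.Agent.Lib.OddOrderTheorem.Basic
import Cfsg.Prelude.Def_TwoFusion

set_option autoImplicit false
set_option linter.style.haveILetI false

namespace Cfsg.Agent.CentralMeet

open Cfsg Involution

universe u

variable {G : Type u} [Group G]

/-- Central intersections of two distinct Sylow 2-subgroups have 2-rank at most one. -/
def RankOneMeet (G : Type*) [Group G] : Prop :=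
  ∀ S T : Sylow 2 G, S ≠ T →
      ((S : Subgroup G) ⊓ (T : Subgroup G) = ⊥ ∨
        ∃ z ∈ (S : Subgroup G) ⊓ (T : Subgroup G), orderOf z = 2 ∧
          ∃ U : Sylow 2 G, z ∈ (Subgroup.center ↥(U : Subgroup G)).map (U : Subgroup G).subtype) →
      Cfsg.PRankLE 2 1 ↥((S : Subgroup G) ⊓ (T : Subgroup G))

/-- An element in the centre of some Sylow 2-subgroup. -/
def Central (z : G) : Prop := ∃ U : Sylow 2 G, z ∈ U ∧ ∀ x ∈ U, Commute x z

theorem Central.mem_map {z : G} {U : Sylow 2 G} (hz : z ∈ U) (hc : ∀ x ∈ U, Commute x z) :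
    z ∈ (Subgroup.center ↥(U : Subgroup G)).map (U : Subgroup G).subtype :=
  ⟨⟨z, hz⟩, Subgroup.mem_center_iff.2 fun x => Subtype.ext (hc x x.2).eq, rfl⟩

theorem Central.conj {z : G} (h : Central z) (g : G) : Central (g * z * g⁻¹) := by
  obtain ⟨U, hU, hc⟩ := h
  refine ⟨g • U, ⟨z, hU, rfl⟩, ?_⟩
  rintro _ ⟨x, hx, rfl⟩
  exact (hc x hx).map (MulAut.conj g).toMonoidHom

/-- Two commuting involutions, one of them or their product 2-central, in only one Sylow 2-subgroup. -/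
theorem eq_of_pair [Finite G] (hR : RankOneMeet G) {S T : Sylow 2 G} {a b : G} (ha : orderOf a = 2)
    (hb : orderOf b = 2) (hab : a ≠ b) (hc : Commute a b) (haS : a ∈ S) (hbS : b ∈ S) (haT : a ∈ T)
    (hbT : b ∈ T) (hcen : Central a ∨ Central b ∨ Central (a * b)) : S = T := by
  by_contra hne
  set J := (S : Subgroup G) ⊓ (T : Subgroup G)
  have haJ : a ∈ J := ⟨haS, haT⟩
  have hbJ : b ∈ J := ⟨hbS, hbT⟩
  have hab2 : orderOf (a * b) = 2 :=
    orderOf_of_sq (by rw [mul_assoc, ← mul_assoc b, ← hc.eq, mul_assoc a b b, mul_self hb, mul_one,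
      mul_self ha]) fun h => hab (by rw [eq_inv_of_mul_eq_one_left h, inv_eq hb])
  have hw : ∃ z ∈ J, orderOf z = 2 ∧
      ∃ U : Sylow 2 G, z ∈ (Subgroup.center ↥(U : Subgroup G)).map (U : Subgroup G).subtype := by
    rcases hcen with ⟨U, h1, h2⟩ | ⟨U, h1, h2⟩ | ⟨U, h1, h2⟩
    · exact ⟨a, haJ, ha, U, Central.mem_map h1 h2⟩
    · exact ⟨b, hbJ, hb, U, Central.mem_map h1 h2⟩
    · exact ⟨a * b, mul_mem haJ hbJ, hab2, U, Central.mem_map h1 h2⟩
  set V := Bender.fourOf (mul_self ha) (mul_self hb) hc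
  haveI := Bender.isMulCommutative_fourOf (mul_self ha) (mul_self hb) hc
  have hsq : ∀ x ∈ V.subgroupOf J, x ^ 2 = 1 := by
    intro x hx
    rw [sq]
    refine Subtype.ext ?_
    rcases Subgroup.mem_subgroupOf.1 hx with e | e | e | e <;> rw [Subgroup.coe_mul, e]
    · exact one_mul 1
    · exact mul_self ha
    · exact mul_self hb
    · exact mul_self hab2
  have hcomm : IsMulCommutative (V.subgroupOf J) := by
    have hinv : ∀ x : V.subgroupOf J, x⁻¹ = x := fun x =>
      inv_eq_of_mul_eq_one_right (Subtype.ext (by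
        have := hsq _ x.2
        rwa [sq] at this))
    exact ⟨⟨fun x y => by rw [← hinv (x * y), mul_inv_rev, hinv, hinv]⟩⟩
  have hle := hR S T hne (Or.inr hw) (V.subgroupOf J) hcomm hsq
  let f : Fin 3 → V.subgroupOf J := ![1,
    ⟨⟨a, haJ⟩, Subgroup.mem_subgroupOf.2 (Or.inr (Or.inl rfl))⟩,
    ⟨⟨b, hbJ⟩, Subgroup.mem_subgroupOf.2 (Or.inr (Or.inr (Or.inl rfl)))⟩]
  have hf : Function.Injective f := by
    intro i j e
    have e' := congrArg (fun x : V.subgroupOf J => ((x : J) : G)) e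
    fin_cases i <;> fin_cases j <;> simp [f, ne_one ha, ne_one hb, hab, Ne.symm hab,
      (ne_one ha).symm, (ne_one hb).symm] at e' ⊢
  have h3 := Nat.card_le_card_of_injective f hf
  rw [Nat.card_eq_fintype_card, Fintype.card_fin] at h3
  exact absurd (h3.trans hle) (by norm_num)

/-- An element carrying such a pair of `S` into `S` normalises `S`. -/
theorem mem_normalizer_of_pair [Finite G] (hR : RankOneMeet G) {S : Sylow 2 G} {a b g : G}
    (ha : orderOf a = 2) (hb : orderOf b = 2) (hab : a ≠ b) (hc : Commute a b) (haS : a ∈ S)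
    (hbS : b ∈ S) (hcen : Central a ∨ Central b ∨ Central (a * b)) (hga : g * a * g⁻¹ ∈ S)
    (hgb : g * b * g⁻¹ ∈ S) : g ∈ Subgroup.normalizer ((S : Subgroup G) : Set G) := by
  have e : S = g⁻¹ • S := eq_of_pair hR ha hb hab hc haS hbS
    ⟨_, hga, by simp [mul_assoc]⟩ ⟨_, hgb, by simp [mul_assoc]⟩
    hcen
  have := Sylow.smul_eq_iff_mem_normalizer.1 e.symm
  simpa using inv_mem this

/-- An element of 2-power order normalising a Sylow 2-subgroup lies in it. -/
theorem mem_sylow_of_two_elt [Finite G] (S : Sylow 2 G) {x : G}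
    (hx : x ∈ Subgroup.normalizer ((S : Subgroup G) : Set G)) {k : ℕ} (h : orderOf x = 2 ^ k) :
    x ∈ S := by
  have hp : IsPGroup 2 (Subgroup.zpowers x) := IsPGroup.of_card (n := k) (by rw [Nat.card_zpowers, h])
  have := S.is_maximal' (hp.to_sup_of_normal_right' S.isPGroup' (Subgroup.zpowers_le.2 hx))
    le_sup_right
  exact this.le (Subgroup.mem_sup_left (Subgroup.mem_zpowers x))

/-- `Ω₁ Z(S)`. -/
def omega (S : Subgroup G) : Subgroup G where
  carrier := {x | x ∈ S ∧ x * x = 1 ∧ ∀ s ∈ S, Commute s x}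
  one_mem' := ⟨one_mem S, one_mul 1, fun s _ => Commute.one_right s⟩
  mul_mem' := by
    rintro x y ⟨hx, hx2, hxc⟩ ⟨hy, hy2, hyc⟩
    refine ⟨mul_mem hx hy, ?_, fun s hs => (hxc s hs).mul_right (hyc s hs)⟩
    rw [mul_assoc, ← mul_assoc y, (hxc y hy).eq, mul_assoc x y y, hy2, mul_one, hx2]
  inv_mem' := by
    rintro x ⟨hx, hx2, hxc⟩
    have e : x⁻¹ = x := inv_eq_of_mul_eq_one_right hx2
    rw [e]; exact ⟨hx, hx2, hxc⟩

theorem mem_omega_iff {S : Subgroup G} {x : G} :
    x ∈ omega S ↔ x ∈ S ∧ x * x = 1 ∧ ∀ s ∈ S, Commute s x := Iff.rfl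

theorem omega_le (S : Subgroup G) : omega S ≤ S := fun _ h => h.1

theorem omega_comm {S : Subgroup G} {x y : G} (hx : x ∈ omega S) (hy : y ∈ omega S) : Commute x y :=
  hy.2.2 x hx.1

theorem central_of_mem_omega {S : Sylow 2 G} {x : G} (hx : x ∈ omega (S : Subgroup G)) : Central x :=
  ⟨S, hx.1, hx.2.2⟩

theorem conj_mem_omega {S : Subgroup G} {g x : G} (hg : g ∈ Subgroup.normalizer (S : Set G))
    (hx : x ∈ omega S) : g * x * g⁻¹ ∈ omega S := by
  refine ⟨(Subgroup.mem_normalizer_iff.1 hg x).1 hx.1, ?_, fun s hs => ?_⟩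
  · calc g * x * g⁻¹ * (g * x * g⁻¹) = g * (x * x) * g⁻¹ := by group
      _ = 1 := by rw [hx.2.1, mul_one, mul_inv_cancel]
  · have h1 := (hx.2.2 _ ((Subgroup.mem_normalizer_iff''.1 hg s).1 hs)).map
      (MulAut.conj g).toMonoidHom
    simpa [mul_assoc] using h1

theorem exists_mem_omega [Finite G] (S : Sylow 2 G) (h : (S : Subgroup G) ≠ ⊥) :
    ∃ z ∈ omega (S : Subgroup G), orderOf z = 2 := by
  haveI : Fact (Nat.Prime 2) := ⟨Nat.prime_two⟩
  haveI : Nontrivial ↥(S : Subgroup G) := (Subgroup.nontrivial_iff_ne_bot _).2 h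
  haveI := IsPGroup.center_nontrivial S.isPGroup'
  obtain ⟨k, hk⟩ := (S.isPGroup'.to_subgroup (Subgroup.center ↥(S : Subgroup G))).exists_card_eq
  have h2 : 2 ∣ Nat.card (Subgroup.center ↥(S : Subgroup G)) := by
    rcases k with _ | k
    · have := Finite.one_lt_card (α := Subgroup.center ↥(S : Subgroup G))
      omega
    · exact ⟨2 ^ k, by rw [hk, pow_succ]; ring⟩
  obtain ⟨z, hz⟩ := exists_prime_orderOf_dvd_card' 2 h2
  rw [← Subgroup.orderOf_coe, ← Subgroup.orderOf_coe] at hz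
  exact ⟨_, ⟨z.1.2, mul_self hz, fun s hs =>
    congrArg Subtype.val (Subgroup.mem_center_iff.1 z.2 ⟨s, hs⟩)⟩, hz⟩

/-- Sylow's theorem inside the centraliser of `t`. -/
theorem exists_conj_cent [Finite G] (T : Sylow 2 G) {t : G} (hTt : ∀ x ∈ T, Commute x t)
    {V : Subgroup G} (hV : IsPGroup 2 V) (hVt : ∀ x ∈ V, Commute x t) :
    ∃ c : G, Commute c t ∧ ∀ x ∈ V, c * x * c⁻¹ ∈ T := by
  haveI : Fact (Nat.Prime 2) := ⟨Nat.prime_two⟩
  set C := Subgroup.centralizer ({t} : Set G)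
  have hTC : (T : Subgroup G) ≤ C := fun x hx => mem_centralizer_iff_commute.2 (hTt x hx)
  have hVC : V ≤ C := fun x hx => mem_centralizer_iff_commute.2 (hVt x hx)
  obtain ⟨Q, hQ⟩ := IsPGroup.exists_le_sylow (p := 2) (P := V.subgroupOf C)
    (hV.of_equiv (Subgroup.subgroupOfEquivOfLe hVC).symm)
  obtain ⟨c, hc⟩ := MulAction.exists_smul_eq C Q (T.subtype hTC)
  refine ⟨c, mem_centralizer_iff_commute.1 c.2, fun x hx => ?_⟩
  have hmem : c * ⟨x, hVC hx⟩ * c⁻¹ ∈ ((c • Q : Sylow 2 C) : Subgroup C) :=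
    ⟨⟨x, hVC hx⟩, hQ (Subgroup.mem_subgroupOf.2 hx), rfl⟩
  rw [hc] at hmem
  exact hmem

/-- A 2-central involution of `S` lies in `Ω₁ Z(S)`. -/
theorem mem_omega [Finite G] (hR : RankOneMeet G) {S : Sylow 2 G} {z : G} (hz : orderOf z = 2)
    (hzS : z ∈ S) (hc : Central z) : z ∈ omega (S : Subgroup G) := by
  have hne : (S : Subgroup G) ≠ ⊥ := fun h => ne_one hz (Subgroup.mem_bot.1 (h ▸ hzS))
  obtain ⟨z₀, hz₀, hz₀2⟩ := exists_mem_omega S hne
  by_cases he : z₀ = z
  · exact he ▸ hz₀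
  have hcm : Commute z z₀ := hz₀.2.2 z hzS
  obtain ⟨U, hzU, hUc⟩ := hc
  obtain ⟨c, hct, hcV⟩ := exists_conj_cent U hUc
    (V := Bender.fourOf (mul_self hz) (mul_self hz₀2) hcm)
    (Bender.card_fourOf_dvd _ _ hcm) (by
      rintro x (rfl | rfl | rfl | rfl)
      · exact Commute.one_left _
      · exact Commute.refl _
      · exact hcm.symm
      · exact (Commute.refl _).mul_left hcm.symm)
  have hmem : ∀ x, c * x * c⁻¹ ∈ U → x ∈ c⁻¹ • U := fun x hx =>
    ⟨_, hx, by simp [mul_assoc]⟩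
  have e : S = c⁻¹ • U := eq_of_pair hR hz hz₀2 (fun h => he h.symm) hcm hzS hz₀.1
    (hmem z (hcV z (Or.inr (Or.inl rfl)))) (hmem z₀ (hcV z₀ (Or.inr (Or.inr (Or.inl rfl)))))
    (Or.inl ⟨U, hzU, hUc⟩)
  refine ⟨hzS, mul_self hz, fun s hs => ?_⟩
  rw [e] at hs
  obtain ⟨u, hu, rfl⟩ := hs
  have h1 := (hUc u hu).map (MulAut.conj c⁻¹).toMonoidHom
  have h2 : c⁻¹ * z * c = z := by
    rw [mul_assoc, ← hct.eq, inv_mul_cancel_left]
  simpa [h2] using h1

theorem orderOf_of_mem_omega {S : Subgroup G} {x : G} (hx : x ∈ omega S) (h1 : x ≠ 1) :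
    orderOf x = 2 := orderOf_of_sq hx.2.1 h1

/-- `Ω₁ Z(S)` is strongly closed in `S`. -/
theorem omega_stronglyClosed [Finite G] (hR : RankOneMeet G) (S : Sylow 2 G) :
    IsStronglyClosed (omega (S : Subgroup G)) (S : Subgroup G) := by
  refine ⟨omega_le _, fun x hx g hg => ?_⟩
  rcases eq_or_ne x 1 with rfl | h1
  · simp
  · exact mem_omega hR ((orderOf_conj g x).trans (orderOf_of_mem_omega hx h1)) hg
      ((central_of_mem_omega hx).conj g)

section simple

variable [Finite G] [IsSimpleGroup G]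

theorem sylow_ne_bot (hG : ¬ IsMulCommutative G) (S : Sylow 2 G) : (S : Subgroup G) ≠ ⊥ := by
  haveI : Fact (Nat.Prime 2) := ⟨Nat.prime_two⟩
  intro h
  have hodd : Odd (Nat.card G) := by
    rw [← Nat.not_even_iff_odd, even_iff_two_dvd]
    intro h2
    have := S.dvd_card_of_dvd_card h2
    rw [h, Subgroup.card_bot] at this
    omega
  haveI := OddOrderTheorem.solvable hodd
  exact hG ⟨⟨fun a b => IsSimpleGroup.comm_iff_isSolvable.2 inferInstance a b⟩⟩

theorem normalizer_ne_top (hG : ¬ IsMulCommutative G) (S : Sylow 2 G) :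
    Subgroup.normalizer ((S : Subgroup G) : Set G) ≠ ⊤ := by
  haveI : Fact (Nat.Prime 2) := ⟨Nat.prime_two⟩
  intro h
  rcases (Subgroup.normalizer_eq_top_iff.1 h).eq_bot_or_eq_top with e | e
  · exact sylow_ne_bot hG S e
  · have hp : IsPGroup 2 G := (e ▸ S.isPGroup').of_equiv Subgroup.topEquiv
    haveI := hp.isNilpotent
    exact hG ⟨⟨fun a b => IsSimpleGroup.comm_iff_isSolvable.2 inferInstance a b⟩⟩

/-- No element of `Ω₁Z(S)` is fixed by `N(S)`. -/
theorem exists_moved (hR : RankOneMeet G) (hG : ¬ IsMulCommutative G) {S : Sylow 2 G} {t : G}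
    (ht : t ∈ omega (S : Subgroup G)) (ht1 : t ≠ 1) :
    ∃ n ∈ Subgroup.normalizer ((S : Subgroup G) : Set G), n * t * n⁻¹ ≠ t := by
  by_contra hcon
  push Not at hcon
  refine NormEven.isolated_contra hG S (orderOf_of_mem_omega ht ht1) ht.1 fun g hg => ?_
  have h2 := (omega_stronglyClosed hR S).2 t ht g hg
  obtain ⟨n, hn, he⟩ := NormEven.central_fusion S ht.2.2 h2.2.2 rfl
  rw [← he, hcon n hn]

/-- `Ω₁Z(S)` has at least four elements. -/
theorem omega_four_le (hR : RankOneMeet G) (hG : ¬ IsMulCommutative G) (S : Sylow 2 G) :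
    4 ≤ Nat.card (omega (S : Subgroup G)) := by
  haveI : Fact (Nat.Prime 2) := ⟨Nat.prime_two⟩
  obtain ⟨t, ht, ht2⟩ := exists_mem_omega S (sylow_ne_bot hG S)
  obtain ⟨n, hn, hne⟩ := exists_moved hR hG ht (ne_one ht2)
  obtain ⟨k, hk⟩ := (S.isPGroup'.to_le (omega_le (S : Subgroup G))).exists_card_eq
  let f : Fin 3 → omega (S : Subgroup G) := ![1, ⟨t, ht⟩, ⟨_, conj_mem_omega hn ht⟩]
  have hf : Function.Injective f := by
    intro i j e
    have e' := congrArg (fun x : omega (S : Subgroup G) => (x : G)) e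
    have hn1 : n * t * n⁻¹ ≠ 1 := fun h => ne_one ht2 (conj_eq_one_iff.1 h)
    fin_cases i <;> fin_cases j <;> simp [f, ne_one ht2, (ne_one ht2).symm, hne, Ne.symm hne,
      hn1, hn1.symm] at e' ⊢
  have h3 := Nat.card_le_card_of_injective f hf
  rw [Nat.card_eq_fintype_card, Fintype.card_fin, hk] at h3
  rw [hk]
  rcases k with _ | _ | k
  · omega
  · omega
  · calc 4 = 2 ^ 2 := rfl
      _ ≤ _ := Nat.pow_le_pow_right (by norm_num) (by omega)

end simple

end Cfsg.Agent.CentralMeet
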