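/-
An odd group of automorphisms of an elementary abelian 2-group whose one point stabiliser is
transitive on the other points modulo that point (owner: helper56).

* `exists_seven` : the group has order eight, and some element of order seven permutes the
  involutions cyclically.

The stabiliser is bounded by the dimension: it embeds into the roots of the minimal polynomial of a
generator of the cyclic Fitting subgroup.
-/
import Cfsg.Agent.EqLemmas
import Cfsg.Agent.S1161
import Cfsg.Agent.Lib.Bender.RankOneHalf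

set_option autoImplicit false
set_option linter.style.haveILetI false
set_option linter.unusedSectionVars false

namespace Cfsg.Agent.CentralMeet

open Cfsg Polynomial

universe u

section roots

variable {K : Type*} [Field K] {E : Type*} [AddCommGroup E] [Module K E]

theorem aeval_semiconj {σ σ' : Module.End K E} {τ : E → E} (hadd : ∀ x y, τ (x + y) = τ x + τ y)
    (hsmul : ∀ (a : K) x, τ (a • x) = a • τ x) (h : ∀ x, σ' (τ x) = τ (σ x)) (p : K[X]) :
    ∀ x, aeval σ' p (τ x) = τ (aeval σ p x) := by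
  induction p using Polynomial.induction_on' with
  | add p q hp hq =>
    intro x
    rw [map_add, map_add, LinearMap.add_apply, LinearMap.add_apply, hp, hq, hadd]
  | monomial n a =>
    intro x
    have hn : ∀ (n : ℕ) x, (σ' ^ n) (τ x) = τ ((σ ^ n) x) := by
      intro n
      induction n with
      | zero => intro x; rfl
      | succ n ih => intro x; rw [pow_succ, pow_succ, Module.End.mul_apply, Module.End.mul_apply, h, ih]
    rw [aeval_monomial, aeval_monomial, Module.End.mul_apply, Module.End.mul_apply, hn,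
      Module.algebraMap_end_apply, Module.algebraMap_end_apply, hsmul]

variable [FiniteDimensional K E] [Nontrivial E]

/-- Powers of `σ` conjugate to `σ`, `σ ^ i - 1` injective unless zero: few of them are distinct. -/
theorem card_conjugate_powers_le (σ : Module.End K E) (I : Set ℕ)
    (hfpf : ∀ i : ℕ, σ ^ i ≠ 1 → Function.Injective (σ ^ i - 1 : Module.End K E))
    (hconj : ∀ i ∈ I, aeval (σ ^ i) (minpoly K σ) = 0) {k : ℕ} (hk : 0 < k) (hσ : σ ^ k = 1)
    {A : Type*} [Finite A] (j : A → ℕ) (hj : ∀ a, j a ∈ I)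
    (hinj : ∀ a a', σ ^ j a = σ ^ j a' → a = a') :
    Nat.card A ≤ Module.finrank K E := by
  classical
  set p := minpoly K σ with hp
  have hint : IsIntegral K σ := Algebra.IsIntegral.isIntegral σ
  have hp0 : p ≠ 0 := minpoly.ne_zero hint
  have hdeg : p.natDegree ≤ Module.finrank K E := by
    rw [← LinearMap.charpoly_natDegree σ]
    exact Polynomial.natDegree_le_of_dvd (LinearMap.minpoly_dvd_charpoly σ)
      σ.charpoly_monic.ne_zero
  let L := AlgebraicClosure K
  have hpd : p.degree ≠ 0 := fun h => (minpoly.degree_pos hint).ne' h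
  obtain ⟨ω, hω⟩ := IsAlgClosed.exists_aeval_eq_zero L p hpd
  have hωk : ω ^ k = 1 := by
    have h1 : p ∣ X ^ k - 1 := minpoly.dvd K σ (by simp [hσ])
    have h2 := aeval_eq_zero_of_dvd_aeval_eq_zero h1 hω
    simpa [sub_eq_zero] using h2
  have hω1 : ∀ i : ℕ, ω ^ i = 1 → σ ^ i = 1 := by
    intro i hi
    by_contra hne
    have hωint : IsIntegral K ω := Algebra.IsIntegral.isIntegral ω
    obtain ⟨q', hq'⟩ : minpoly K ω ∣ X ^ i - 1 := minpoly.dvd K ω (by simp [hi])
    obtain ⟨p', hp'⟩ : minpoly K ω ∣ p := minpoly.dvd K ω hω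
    have hzero : aeval σ p' = 0 := by
      refine LinearMap.ext fun x => hfpf i hne ?_
      rw [LinearMap.zero_apply, map_zero]
      have h1 : (σ ^ i - 1 : Module.End K E) * aeval σ p' = 0 := by
        have e : (X ^ i - 1) * p' = q' * p := by rw [hq', hp']; ring
        have := congrArg (aeval σ) e
        rw [map_mul, map_mul, hp, minpoly.aeval, mul_zero, map_sub, map_pow, aeval_X, map_one] at this
        exact this
      exact LinearMap.congr_fun h1 x
    have hp'0 : p' ≠ 0 := fun h => hp0 (by rw [hp', h, mul_zero])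
    have h2 := Polynomial.natDegree_le_of_dvd (minpoly.dvd K σ hzero) hp'0
    rw [← hp, hp', Polynomial.natDegree_mul (minpoly.ne_zero hωint) hp'0] at h2
    have := minpoly.natDegree_pos hωint
    omega
  have hroot : ∀ a, ω ^ j a ∈ p.rootSet L := fun a => by
    refine (mem_rootSet_of_ne hp0).2 ?_
    have h1 : p ∣ p.comp (X ^ j a) := minpoly.dvd K σ (by
      rw [aeval_comp, map_pow, aeval_X]; exact hconj _ (hj a))
    have h2 := aeval_eq_zero_of_dvd_aeval_eq_zero h1 hω
    rwa [aeval_comp, map_pow, aeval_X] at h2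
  refine le_trans ?_ hdeg
  refine (Nat.card_le_card_of_injective (fun a => (⟨ω ^ j a, hroot a⟩ : p.rootSet L))
    fun a a' e => hinj a a' ?_).trans ?_
  · have e' : ω ^ j a = ω ^ j a' := congrArg Subtype.val e
    have hσu : IsUnit σ := IsUnit.of_pow_eq_one hσ hk.ne'
    have key : ∀ b c : ℕ, b ≤ c → ω ^ b = ω ^ c → σ ^ b = σ ^ c := by
      intro b c hbc h
      obtain ⟨d, rfl⟩ := Nat.exists_eq_add_of_le hbc
      rw [pow_add] at h
      have hd : ω ^ d = 1 := (mul_right_eq_self₀.1 h.symm).resolve_right fun h0 => by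
        have : IsUnit ω := IsUnit.of_pow_eq_one hωk hk.ne'
        exact (this.pow b).ne_zero h0
      rw [pow_add, hω1 d hd, mul_one]
    rcases le_total (j a) (j a') with h | h
    · exact key _ _ h e'
    · exact (key _ _ h e'.symm).symm
  · rw [Nat.card_eq_fintype_card, Set.fintypeCard_eq_ncard]
    exact Polynomial.ncard_rootSet_le p L

end roots

section group

theorem card_orbit_dvd {Γ : Type*} [Group Γ] [Finite Γ] {α : Type*} [MulAction Γ α] (a : α) :
    Nat.card (MulAction.orbit Γ a) ∣ Nat.card Γ := by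
  rw [Nat.card_coe_set_eq, ← MulAction.index_stabilizer]
  exact Subgroup.index_dvd_card _

variable {A : Type u} [CommGroup A] [Finite A]

/-- The action of a group of automorphisms on the additive group. -/
@[reducible]
def additiveAction (Γ : Subgroup (MulAut A)) : DistribMulAction Γ (Additive A) where
  smul γ e := Additive.ofMul ((γ : MulAut A) e.toMul)
  one_smul e := rfl
  mul_smul γ δ e := rfl
  smul_zero γ := by
    show Additive.ofMul ((γ : MulAut A) (1 : A)) = 0
    rw [map_one]; rfl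
  smul_add γ x y := by
    show Additive.ofMul ((γ : MulAut A) (x.toMul * y.toMul)) = _
    rw [map_mul]; rfl

/-- The count: order eight, and an element of order seven cycling the involutions. -/
theorem exists_seven (hA : ∀ a : A, a * a = 1) (Γ : Subgroup (MulAut A))
    (hodd : Odd (Nat.card Γ)) {t : A} (ht : t ≠ 1) (hmoved : ∃ γ ∈ Γ, γ t ≠ t)
    (htrans : ∀ v w : A, v ≠ 1 → v ≠ t → w ≠ 1 → w ≠ t →
      ∃ γ ∈ Γ, γ t = t ∧ (γ v = w ∨ γ v = t * w))
    (htwo : ∃ v w : A, v ≠ 1 ∧ v ≠ t ∧ w ≠ 1 ∧ w ≠ t ∧ v ≠ w ∧ v * w ≠ t) :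
    Nat.card A = 8 ∧ ∃ γ ∈ Γ, ∀ a b : A, a ≠ 1 → b ≠ 1 → ∃ k : ℕ, (γ ^ k) a = b := by
  classical
  haveI : Fact (Nat.Prime 2) := ⟨Nat.prime_two⟩
  obtain ⟨v₀, w₀, hv1, hvt, hw1, hwt, hvw, hvwt⟩ := htwo
  have htsq : ∀ a : A, t * (t * a) = a := fun a => by rw [← mul_assoc, hA, one_mul]
  have hcl : ∀ {a : A}, a ≠ 1 → a ≠ t → t * a ≠ 1 ∧ t * a ≠ t := fun {a} h1 h2 =>
    ⟨fun h => h2 (by rw [← htsq a, h, mul_one]), fun h => h1 (mul_eq_left.1 h)⟩
  have hoddEl : ∀ γ ∈ Γ, Odd (orderOf γ) := fun γ hγ =>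
    hodd.of_dvd_nat (Subgroup.orderOf_dvd_natCard Γ hγ)
  set Γt : Subgroup Γ := (MulAction.stabilizer (MulAut A) t).subgroupOf Γ with hΓt
  have hmem : ∀ γ : Γ, γ ∈ Γt ↔ (γ : MulAut A) t = t := fun γ => Iff.rfl
  -- transitivity
  have htr : ∀ v : A, v ≠ 1 → ∃ γ ∈ Γ, γ t = v := by
    obtain ⟨γ₁, hγ₁, hne⟩ := hmoved
    set u := γ₁ t with hu
    have hu1 : u ≠ 1 := fun h => ht (γ₁.injective (h.trans (map_one γ₁).symm))
    by_cases hboth : ∃ γ ∈ Γ, γ t = t * u
    · obtain ⟨γ₂, hγ₂, h2⟩ := hboth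
      intro v hv
      by_cases hvt' : v = t
      · exact ⟨1, Γ.one_mem, by rw [MulAut.one_apply, hvt']⟩
      obtain ⟨δ, hδ, hδt, h | h⟩ := htrans u v hu1 hne hv hvt'
      · exact ⟨δ * γ₁, mul_mem hδ hγ₁, by rw [MulAut.mul_apply, ← hu, h]⟩
      · exact ⟨δ * γ₂, mul_mem hδ hγ₂, by rw [MulAut.mul_apply, h2, map_mul, hδt, h, htsq]⟩
    · exfalso
      letI : MulAction Γ A := MulAction.compHom A Γ.subtype
      set O := MulAction.orbit Γ t
      set O' := MulAction.orbit Γt u
      have hO : O = insert t O' := by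
        ext v
        constructor
        · rintro ⟨⟨γ, hγ⟩, rfl⟩
          show γ t ∈ insert t O'
          by_cases hγt : γ t = t
          · exact Or.inl hγt
          refine Or.inr ?_
          have hγ1 : γ t ≠ 1 := fun h => ht (γ.injective (h.trans (map_one γ).symm))
          obtain ⟨δ, hδ, hδt, h | h⟩ := htrans u (γ t) hu1 hne hγ1 hγt
          · exact ⟨⟨⟨δ, hδ⟩, (hmem _).2 hδt⟩, h⟩
          · exfalso
            refine hboth ⟨δ⁻¹ * γ, mul_mem (inv_mem hδ) hγ, ?_⟩
            have e : δ (t * u) = γ t := by rw [map_mul, hδt, h, htsq]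
            rw [MulAut.mul_apply, ← e]
            simp
        · rintro (rfl | ⟨⟨⟨δ, hδ⟩, hδt⟩, rfl⟩)
          · exact MulAction.mem_orbit_self _
          · exact ⟨⟨δ, hδ⟩ * ⟨γ₁, hγ₁⟩, rfl⟩
      have hnot : t ∉ O' := by
        rintro ⟨⟨⟨δ, hδ⟩, hδt⟩, e⟩
        exact hne (δ.injective (e.trans ((hmem ⟨δ, hδ⟩).1 hδt).symm))
      have hcard : Nat.card O = Nat.card O' + 1 := by
        rw [hO, Nat.card_coe_set_eq, Nat.card_coe_set_eq, Set.ncard_insert_of_notMem hnot]
      have h1 : Odd (Nat.card O) := hodd.of_dvd_nat (card_orbit_dvd t)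
      have h2 : Odd (Nat.card O') := (hodd.of_dvd_nat (Subgroup.card_subgroup_dvd_card Γt)).of_dvd_nat
        (card_orbit_dvd u)
      rw [hcard] at h1
      exact Nat.odd_add_one.1 h1 h2
  -- the additive group
  letI := additiveAction Γ
  haveI : FaithfulSMul Γ (Additive A) :=
    ⟨fun h => Subtype.ext (MulEquiv.ext fun a => congrArg Additive.toMul (h (Additive.ofMul a)))⟩
  haveI : Nontrivial (Additive A) := ⟨⟨Additive.ofMul t, 0, fun h => ht h⟩⟩
  have h2 : ∀ e : Additive A, 2 • e = 0 := fun e => by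
    rw [two_nsmul]; exact hA e.toMul
  obtain ⟨hcyc, hsemi, hcomm⟩ := S1161.result (D := Γ) (E := Additive A) hodd Nat.prime_two h2
    (fun a b ha hb => by
      obtain ⟨γ, hγ, e1⟩ := htr a.toMul ha
      obtain ⟨δ, hδ, e2⟩ := htr b.toMul hb
      refine ⟨⟨δ, hδ⟩ * ⟨γ, hγ⟩⁻¹, ?_⟩
      show Additive.ofMul ((δ * γ⁻¹) a.toMul) = b
      rw [MulAut.mul_apply, ← e1]
      simp [e2])
  obtain ⟨σ, hσgen⟩ := hcyc.exists_generator
  -- the linear map of a group element
  letI : Module (ZMod 2) (Additive A) := AddCommGroup.zmodModule h2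
  haveI : FiniteDimensional (ZMod 2) (Additive A) := Module.Finite.of_finite
  let L : Γ →* Module.End (ZMod 2) (Additive A) :=
    { toFun := fun γ => (DistribSMul.toAddMonoidHom (Additive A) γ).toZModLinearMap 2
      map_one' := LinearMap.ext fun e => one_smul Γ e
      map_mul' := fun γ δ => LinearMap.ext fun e => mul_smul γ δ e }
  have hL : ∀ (γ : Γ) e, L γ e = γ • e := fun γ e => rfl
  have hLinj : Function.Injective L := fun γ δ h =>
    eq_of_smul_eq_smul (α := Additive A) fun e => by rw [← hL, ← hL, h]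
  -- the stabiliser acts on the Fitting subgroup without kernel
  have hnorm : (fittingSubgroup Γ).Normal := ⟨fun x hx g => by
    have := Subgroup.mul_mem _ (hcomm (Subgroup.commutator_mem_commutator (Subgroup.mem_top g)
      (Subgroup.mem_top x))) hx
    simpa [commutatorElement_def, mul_assoc] using this⟩
  have hex : ∀ γ : Γt, ∃ i : ℕ, (γ : Γ) * σ * (γ : Γ)⁻¹ = σ.1 ^ i := fun γ => by
    obtain ⟨i, hi⟩ := (isOfFinOrder_of_finite σ).mem_powers_iff_mem_zpowers.2
      (hσgen ⟨_, hnorm.conj_mem _ σ.2 γ⟩)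
    exact ⟨i, (congrArg Subtype.val hi).symm⟩
  choose j hj using hex
  have hbound : Nat.card Γt ≤ Module.finrank (ZMod 2) (Additive A) := by
    refine card_conjugate_powers_le (L σ) (Set.range j) (fun i hi => ?_) ?_ (orderOf_pos (σ : Γ))
      (by rw [← map_pow, pow_orderOf_eq_one, map_one]) j (fun a => ⟨a, rfl⟩) (fun γ δ h => ?_)
    · rw [← map_pow] at hi ⊢
      refine (injective_iff_map_eq_zero _).2 fun e he => ?_
      rw [LinearMap.sub_apply, Module.End.one_apply, sub_eq_zero, hL] at he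
      exact hsemi _ (Subgroup.pow_mem _ σ.2 i) (fun h => hi (by rw [h, map_one])) e he
    · rintro _ ⟨γ, rfl⟩
      refine LinearMap.ext fun x => ?_
      have := aeval_semiconj (σ := L σ) (σ' := L σ ^ j γ) (τ := fun x => (γ : Γ) • x)
        (fun x y => smul_add _ x y) (fun a x => (L (γ : Γ)).map_smul a x) (fun x => by
          rw [← map_pow, hL, hL, ← hj γ, mul_smul, mul_smul, inv_smul_smul])
        (minpoly (ZMod 2) (L σ)) ((γ : Γ)⁻¹ • x)
      simp only [smul_inv_smul, minpoly.aeval, LinearMap.zero_apply, smul_zero] at this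
      rw [this, LinearMap.zero_apply]
    · have hpow : (σ : Γ) ^ j γ = (σ : Γ) ^ j δ := hLinj (by rw [map_pow, map_pow, h])
      rw [← hj γ, ← hj δ] at hpow
      set τ : Γ := (δ : Γ)⁻¹ * γ with hτ
      have hτσ : Commute τ (σ : Γ) := by
        show τ * σ = σ * τ
        calc τ * σ = (δ : Γ)⁻¹ * ((γ : Γ) * σ * (γ : Γ)⁻¹) * γ := by rw [hτ]; group
          _ = (δ : Γ)⁻¹ * ((δ : Γ) * σ * (δ : Γ)⁻¹) * γ := by rw [hpow]
          _ = σ * τ := by rw [hτ]; group
      have hFc : ∀ x ∈ fittingSubgroup Γ, Commute τ x := fun x hx => by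
        obtain ⟨k, hk⟩ := hσgen ⟨x, hx⟩
        have : x = (σ : Γ) ^ k := by rw [← Subgroup.coe_zpow]; exact congrArg Subtype.val hk.symm
        rw [this]; exact hτσ.zpow_right k
      set B := fittingSubgroup Γ ⊔ Subgroup.zpowers τ with hB
      have hBn : B.Normal := ⟨fun x hx g => by
        have := Subgroup.mul_mem _ ((hcomm.trans le_sup_left) (Subgroup.commutator_mem_commutator
          (Subgroup.mem_top g) (Subgroup.mem_top x))) hx
        simpa [commutatorElement_def, mul_assoc] using this⟩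
      haveI hBc : IsMulCommutative B := by
        have hle : B ≤ Subgroup.centralizer (B : Set Γ) := by
          have hgen : ∀ a b : Γ, a ∈ (fittingSubgroup Γ : Set Γ) ∪ {τ} →
              b ∈ (fittingSubgroup Γ : Set Γ) ∪ {τ} → Commute a b := by
            rintro a b (ha | rfl) (hb | rfl)
            · obtain ⟨k, hk⟩ := hσgen ⟨a, ha⟩
              obtain ⟨l, hl⟩ := hσgen ⟨b, hb⟩
              rw [show a = (σ : Γ) ^ k by rw [← Subgroup.coe_zpow]; exact congrArg Subtype.val hk.symm,
                show b = (σ : Γ) ^ l by rw [← Subgroup.coe_zpow]; exact congrArg Subtype.val hl.symm]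
              exact ((Commute.refl _).zpow_left k).zpow_right l
            · exact (hFc a ha).symm
            · exact hFc b hb
            · exact Commute.refl _
          have hBcl : B = Subgroup.closure ((fittingSubgroup Γ : Set Γ) ∪ {τ}) := by
            rw [Subgroup.closure_union, Subgroup.closure_eq, ← Subgroup.zpowers_eq_closure]
          rw [hBcl, Subgroup.centralizer_closure, Subgroup.closure_le]
          exact fun a ha => Subgroup.mem_centralizer_iff.2 fun b hb => (hgen b a hb ha).eq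
        exact ⟨⟨fun a b => Subtype.ext (Subgroup.mem_centralizer_iff.1 (hle b.2) a a.2)⟩⟩
      letI : CommGroup B := { (inferInstance : Group B) with mul_comm := fun a b => mul_comm' a b }
      have hτF : τ ∈ fittingSubgroup Γ :=
        le_sSup (show B ∈ {M : Subgroup Γ | M.Normal ∧ Group.IsNilpotent M} from
          ⟨hBn, inferInstance⟩) (Subgroup.mem_sup_right (Subgroup.mem_zpowers τ))
      have hfix : (τ : MulAut A) t = t := (hmem τ).1 (mul_mem (inv_mem δ.2) γ.2)
      have h1 : τ = 1 := by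
        by_contra hne
        exact ht (congrArg Additive.toMul (hsemi τ hτF hne (Additive.ofMul t) (congrArg Additive.ofMul hfix)))
      exact Subtype.ext (inv_mul_eq_one.1 h1).symm
  -- the count
  have hcardA : Nat.card A = 2 ^ Module.finrank (ZMod 2) (Additive A) := by
    have := Module.natCard_eq_pow_finrank (K := ZMod 2) (V := Additive A)
    rw [Nat.card_zmod] at this
    exact this
  have hle : Nat.card A ≤ 2 * Nat.card Γt + 2 := by
    let g : (Γt × Bool) ⊕ Bool → A := fun x => match x with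
      | Sum.inl (γ, true) => ((γ : Γ) : MulAut A) v₀
      | Sum.inl (γ, false) => t * ((γ : Γ) : MulAut A) v₀
      | Sum.inr true => 1
      | Sum.inr false => t
    have hg : Function.Surjective g := by
      intro a
      by_cases ha : a = 1
      · exact ⟨Sum.inr true, ha.symm⟩
      by_cases ha' : a = t
      · exact ⟨Sum.inr false, ha'.symm⟩
      obtain ⟨γ, hγ, hγt, h | h⟩ := htrans v₀ a hv1 hvt ha ha'
      · exact ⟨Sum.inl (⟨⟨γ, hγ⟩, (hmem _).2 hγt⟩, true), h⟩
      · refine ⟨Sum.inl (⟨⟨γ, hγ⟩, (hmem _).2 hγt⟩, false), ?_⟩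
        show t * γ v₀ = a
        rw [h, htsq]
    have := Nat.card_le_card_of_surjective g hg
    simpa [Nat.card_sum, Nat.card_prod, mul_comm] using this
  have hsix : 6 ≤ Nat.card A := by
    obtain ⟨a1, a2⟩ := hcl hv1 hvt
    obtain ⟨b1, b2⟩ := hcl hw1 hwt
    let g : Fin 6 → A := ![1, t, v₀, t * v₀, w₀, t * w₀]
    have h3 : t * v₀ ≠ w₀ := fun h => hvwt (by rw [← h, mul_comm t, ← mul_assoc, hA, one_mul])
    have h4 : v₀ ≠ t * w₀ := fun h => h3 (by rw [h, htsq])
    have hg : Function.Injective g := by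
      intro i k e
      fin_cases i <;> fin_cases k <;> simp [g, ht, ht.symm, hv1, hv1.symm, hvt, hvt.symm, hw1,
        hw1.symm, hwt, hwt.symm, hvw, hvw.symm, a1, a1.symm, a2, a2.symm, b1, b1.symm, b2, b2.symm,
        h3, h3.symm, h4, h4.symm] at e ⊢
    have := Nat.card_le_card_of_injective g hg
    simpa using this
  obtain ⟨d, hd⟩ : ∃ d, d = Module.finrank (ZMod 2) (Additive A) := ⟨_, rfl⟩
  rw [← hd] at hbound hcardA
  have hgrow : ∀ k, 4 ≤ k → 2 * k + 2 < 2 ^ k := by
    intro k hk
    induction k, hk using Nat.le_induction with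
    | base => norm_num
    | succ k hk ih => rw [pow_succ]; omega
  have hd3 : d = 3 := by
    by_contra hne
    rcases Nat.lt_or_ge d 3 with h | h
    · interval_cases d <;> omega
    · have := hgrow d (by omega); omega
  have h8 : Nat.card A = 8 := by rw [hcardA, hd3]; norm_num
  refine ⟨h8, ?_⟩
  letI : MulAction Γ A := MulAction.compHom A Γ.subtype
  have horb : Nat.card (MulAction.orbit Γ t) = 7 := by
    have e : MulAction.orbit Γ t = {a : A | a ≠ 1} := by
      ext a
      refine ⟨?_, fun ha => ?_⟩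
      · rintro ⟨γ, rfl⟩ h
        exact ht (((γ : MulAut A)).injective (h.trans (map_one _).symm))
      · obtain ⟨γ, hγ, e⟩ := htr a ha
        exact ⟨⟨γ, hγ⟩, e⟩
    rw [e, Nat.card_coe_set_eq, show {a : A | a ≠ 1} = ({1} : Set A)ᶜ from rfl, Set.ncard_compl,
      Set.ncard_singleton, h8]
  haveI : Fact (Nat.Prime 7) := ⟨by norm_num⟩
  obtain ⟨⟨γ, hγ⟩, hγ7⟩ := exists_prime_orderOf_dvd_card' (G := Γ) 7
    (horb ▸ card_orbit_dvd (Γ := Γ) t)
  rw [← Subgroup.orderOf_coe] at hγ7
  refine ⟨γ, hγ, ?_⟩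
  have hfree : ∀ (k : ℕ) (a : A), a ≠ 1 → (γ ^ k) a = a → γ ^ k = 1 := by
    intro k a ha hk
    obtain ⟨g, hg, rfl⟩ := htr a ha
    set δ : Γ := ⟨g⁻¹ * γ ^ k * g, mul_mem (mul_mem (inv_mem hg) (pow_mem hγ k)) hg⟩ with hδ
    have hδt : δ ∈ Γt := (hmem δ).2 (by
      show g⁻¹ ((γ ^ k) (g t)) = t
      rw [hk]; simp)
    have h7 : δ ^ 7 = 1 := by
      refine Subtype.ext ?_
      show (g⁻¹ * γ ^ k * g) ^ 7 = 1
      rw [show g⁻¹ * γ ^ k * g = g⁻¹ * γ ^ k * g⁻¹⁻¹ by rw [inv_inv], conj_pow, ← pow_mul,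
        mul_comm, pow_mul, ← hγ7, pow_orderOf_eq_one, one_pow, mul_one, mul_inv_cancel]
    have hle3 : orderOf δ ≤ 3 := by
      have := Nat.le_of_dvd Nat.card_pos (Subgroup.orderOf_dvd_natCard Γt hδt)
      omega
    have hd1 : δ = 1 := by
      rcases (Nat.dvd_prime (by norm_num : Nat.Prime 7)).1 (orderOf_dvd_of_pow_eq_one h7) with e | e
      · exact orderOf_eq_one_iff.1 e
      · omega
    have : g⁻¹ * γ ^ k * g = 1 := congrArg Subtype.val hd1
    calc γ ^ k = g * (g⁻¹ * γ ^ k * g) * g⁻¹ := by group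
      _ = 1 := by rw [this, mul_one, mul_inv_cancel]
  intro a b ha hb
  let F : Fin 7 → {x : A // x ≠ 1} := fun i =>
    ⟨(γ ^ (i : ℕ)) a, fun h => ha ((γ ^ (i : ℕ)).injective (h.trans (map_one _).symm))⟩
  have hF : Function.Injective F := by
    have key : ∀ i k : ℕ, i ≤ k → k < 7 → (γ ^ i) a = (γ ^ k) a → i = k := by
      intro i k hik hk e
      obtain ⟨l, rfl⟩ := Nat.exists_eq_add_of_le hik
      rw [pow_add, MulAut.mul_apply] at e
      have hl := hfree l a ha ((γ ^ i).injective e).symm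
      rcases Nat.eq_zero_or_pos l with h | h
      · omega
      · have := Nat.le_of_dvd h (orderOf_dvd_of_pow_eq_one hl)
        rw [hγ7] at this
        omega
    intro i k e
    have e' := congrArg Subtype.val e
    rcases le_total (i : ℕ) k with h | h
    · exact Fin.ext (key _ _ h k.2 e')
    · exact Fin.ext (key _ _ h i.2 e'.symm).symm
  have h7' : Nat.card {x : A // x ≠ 1} = 7 := by
    show Nat.card ({1}ᶜ : Set A) = 7
    rw [Nat.card_coe_set_eq, Set.ncard_compl, Set.ncard_singleton, h8]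
  obtain ⟨i, hi⟩ := ((Nat.bijective_iff_injective_and_card F).2 ⟨hF, by simp [h7']⟩).2 ⟨b, hb⟩
  exact ⟨i, congrArg Subtype.val hi⟩

end group

end Cfsg.Agent.CentralMeet
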