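/-
The conclusion of S3185 from a strongly embedded subgroup, and the Klein four case (owner: helper56).

* `Conclusion G` : the five alternatives.
* `psl_of_setup`, `conclusion_of_stronglyEmbedded` : from Bender's theorem.
* `conclusion_of_klein` : a Klein four Sylow 2-subgroup, from `HalfClasses.KleinGW`.
-/
import Cfsg.Agent.Lib.Bender.RankOneHalf
import Cfsg.Agent.Lib.SuzukiRankOne.Suzuki.Main
import Cfsg.Agent.Lib.Bender.Consumers
import Cfsg.Agent.Lib.Suzuki.LieModel
import Cfsg.Agent.Lib.GLOrder.Basic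
import Cfsg.Agent.Lib.PSL2.Facts
import Cfsg.Agent.Lib.HalfClasses.Klein
import Cfsg.Agent.S0494
import Cfsg.Prelude.Def_Sporadic

set_option autoImplicit false
set_option linter.style.haveILetI false

namespace Cfsg.Agent.CentralMeet

open Cfsg Involution

universe u

/-- The alternatives in S3185. -/
def Conclusion (G : Type*) [Group G] : Prop :=
    (∃ (n : ℕ) (F : Type) (_ : Field F) (_ : Fintype F), 2 ≤ n ∧ Fintype.card F = 2 ^ n ∧
        Nonempty (G ≃* Matrix.ProjectiveSpecialLinearGroup (Fin 2) F)) ∨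
    (∃ (m : ℕ) (F : Type) (_ : Field F) (_ : Fintype F), 1 ≤ m ∧ Fintype.card F = 2 ^ (2 * m + 1) ∧
        Nonempty (G ≃* ↥(Cfsg.Lie.Sz F (2 ^ (m + 1))))) ∨
    (∃ (n : ℕ) (F : Type) (_ : Field F) (_ : Fintype F), 2 ≤ n ∧ Fintype.card F = 4 ^ n ∧
        Nonempty (G ≃* Cfsg.PSU 3 F (2 ^ n))) ∨
    (∃ (F : Type) (_ : Field F) (_ : Fintype F), (Fintype.card F % 8 = 3 ∨ Fintype.card F % 8 = 5) ∧
        5 < Fintype.card F ∧ Nonempty (G ≃* Matrix.ProjectiveSpecialLinearGroup (Fin 2) F)) ∨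
    Cfsg.IsJ1 G

theorem four_pow (n : ℕ) : 4 ^ n = (2 ^ n) ^ 2 := by
  rw [← pow_mul, mul_comm, pow_mul]; norm_num

variable {G : Type u} [Group G] [Finite G] [IsSimpleGroup G]

/-- Bender's theorem: with a strongly embedded subgroup, one of the first three alternatives. -/
theorem conclusion_of_stronglyEmbedded {H : Subgroup G} (hH : IsStronglyEmbedded H) :
    Conclusion G := by
  have hcore := Bender.normalCore_of_simple hH
  have h2 := SuzukiRankOne.two_involutions_of_simple hH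
  obtain ⟨t, Q, h⟩ := Bender.rankOneHalf G H hH hcore h2
  haveI := Bender.faithful_of_normalCore hcore
  obtain ⟨L, hL, hodd, hc⟩ := SuzukiRankOne.classify SuzukiRankOne.kernelShape
    SuzukiRankOne.Suzuki.suzukiShape h h2
  obtain rfl : L = ⊤ := hL.eq_bot_or_eq_top.resolve_left fun e => by
    rw [e, Subgroup.index_bot] at hodd
    exact Nat.not_even_iff_odd.2 hodd (even_iff_two_dvd.2
      ((Involution.orderOf_of_sq h.mul_self h.ne_one) ▸ orderOf_dvd_natCard t))
  rcases hc with ⟨F, _, _, ⟨n, hn, hF⟩, ⟨e⟩⟩ | ⟨F, _, _, m, hm, hF, ⟨e⟩⟩ | ⟨F, _, _, n, hn, hF, ⟨e⟩⟩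
  · exact Or.inl ⟨n, F, _, _, hn, hF, ⟨Subgroup.topEquiv.symm.trans e⟩⟩
  · exact Or.inr (Or.inl ⟨m, F, _, _, hm, hF, ⟨Subgroup.topEquiv.symm.trans e⟩⟩)
  · exact Or.inr (Or.inr (Or.inl ⟨n, F, _, _, hn, by rw [hF, four_pow],
      ⟨Subgroup.topEquiv.symm.trans e⟩⟩))

/-- A Klein four Sylow 2-subgroup. -/
theorem conclusion_of_klein (hK : HalfClasses.KleinGW.{u}) (hG : ¬ IsMulCommutative G) (P : Sylow 2 G)
    (hP : IsKleinFour ↥(P : Subgroup G)) : Conclusion G := by
  haveI : Fact (Nat.Prime 2) := ⟨Nat.prime_two⟩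
  obtain ⟨F, iF, iF', hodd, ⟨e⟩⟩ := hK G inferInstance hG P hP
  have hNF : Nat.card F = Fintype.card F := Nat.card_eq_fintype_card
  have hGc : Nat.card G = Nat.card (Matrix.ProjectiveSpecialLinearGroup (Fin 2) F) :=
    Nat.card_congr e.toEquiv
  have h2 := GLOrder.card_PSL_two_of_odd (F := F) (hNF ▸ hodd)
  rw [← hGc, hNF] at h2
  obtain ⟨q, hq⟩ : ∃ q, q = Fintype.card F := ⟨_, rfl⟩
  rw [← hq] at h2 hodd
  have h4 : 4 ∣ Nat.card G := hP.card_four ▸ Subgroup.card_subgroup_dvd_card _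
  have h8 : ¬ 8 ∣ Nat.card G := fun h => by
    have h' := P.pow_dvd_card_of_pow_dvd_card (n := 3) (by norm_num; exact h)
    rw [hP.card_four] at h'
    norm_num at h'
  have hmod : q % 8 = 3 ∨ q % 8 = 5 := by
    obtain ⟨k, hk⟩ := hodd
    rcases Nat.even_or_odd' k with ⟨j, hj | hj⟩
    · obtain ⟨i, hi | hi⟩ := Nat.even_or_odd' j
      · exfalso
        subst hj hi hk
        refine h8 ?_
        have e1 : Nat.card G = 8 * ((8 * i + 1) * i * (4 * i + 1)) := by
          have : (2 * (2 * (2 * i)) + 1) ^ 2 - 1 = 16 * (i * (4 * i + 1)) := by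
            have : (2 * (2 * (2 * i)) + 1) ^ 2 = 16 * (i * (4 * i + 1)) + 1 := by ring
            omega
          rw [this] at h2
          have e2 : 2 * Nat.card G = 2 * (8 * ((8 * i + 1) * i * (4 * i + 1))) := by rw [h2]; ring
          omega
        exact ⟨_, e1⟩
      · subst hj hi hk; omega
    · obtain ⟨i, hi | hi⟩ := Nat.even_or_odd' j
      · subst hj hi hk; omega
      · exfalso
        subst hj hi hk
        refine h8 ?_
        have e1 : Nat.card G = 8 * ((8 * i + 7) * (i + 1) * (4 * i + 3)) := by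
          have : (2 * (2 * (2 * i + 1) + 1) + 1) ^ 2 - 1 = 16 * ((i + 1) * (4 * i + 3)) := by
            have : (2 * (2 * (2 * i + 1) + 1) + 1) ^ 2 = 16 * ((i + 1) * (4 * i + 3)) + 1 := by ring
            omega
          rw [this] at h2
          have e2 : 2 * Nat.card G = 2 * (8 * ((8 * i + 7) * (i + 1) * (4 * i + 3))) := by rw [h2]; ring
          omega
        exact ⟨_, e1⟩
  by_cases h5 : 5 < q
  · exact Or.inr (Or.inr (Or.inr (Or.inl ⟨F, iF, iF', hq ▸ hmod, hq ▸ h5, ⟨e⟩⟩)))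
  have hq2 : 1 < q := hq ▸ Fintype.one_lt_card
  rcases (show q = 3 ∨ q = 5 by omega) with rfl | rfl
  · exfalso
    have h12 : Nat.card G = 12 := by norm_num at h2; omega
    haveI := PSL2.isSolvable_of_card_two_three (G := G) (by simp [h12])
    exact hG ⟨⟨fun a b => IsSimpleGroup.comm_iff_isSolvable.2 inferInstance a b⟩⟩
  · have h60 : Nat.card G = 60 := by norm_num at h2; omega
    obtain ⟨e1⟩ := S0494.result h60
    letI := Fintype.ofFinite (GaloisField 2 2)
    obtain ⟨e2⟩ := PSL2.mulEquiv_alternatingFive_of_four (F := GaloisField 2 2)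
      (by rw [GaloisField.card 2 2 (by norm_num)]; norm_num)
    exact Or.inl ⟨2, GaloisField 2 2, inferInstance, inferInstance, le_rfl,
      by rw [← Nat.card_eq_fintype_card, GaloisField.card 2 2 (by norm_num)], ⟨e1.trans e2.symm⟩⟩

end Cfsg.Agent.CentralMeet
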