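/-
The centraliser of a central involution modulo the core of `C ⊓ N(S)`, abstractly (owner: helper56).

`Config P H t` : `t` is a central involution of `C`, `H < C` contains the Sylow 2-subgroup `P` as a
normal subgroup, conjugation of the other involutions of `P` is controlled by `H`, and there is a
four subgroup avoiding `t`.

* `Config.core_eq_bot` : `O(C/H_C) = 1`
* `Config.simple_setup` : the normal closure `K` of a central involution in `C/H_C` is simple and
  has a rank one set-up on the cosets of `H/H_C ⊓ K`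
* `Config.closure_eq`, `Config.mem_iff` : `K` does not depend on the involution, and the involutions
  of `H/H_C ⊓ K` are the images of `Ω₁Z(P)`
* `Config.trans`, `Config.exists_two` : consequences for `Ω₁Z(P)`.
-/
import Cfsg.Agent.Lib.CentralMeet.Basic
import Cfsg.Agent.Lib.CentralMeet.Conclusion
import Cfsg.Agent.Lib.Aschbacher.Criterion

set_option autoImplicit false
set_option linter.style.haveILetI false
set_option linter.unusedSectionVars false

namespace Cfsg.Agent.CentralMeet

open Cfsg Involution MulAction Cfsg.Agent.SuzukiRankOne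

universe u

variable {C : Type u} [Group C] [Finite C]

/-- The configuration in the centraliser of the central involution `t`. -/
structure Config (P : Sylow 2 C) (H : Subgroup C) (t : C) : Prop where
  orderOf_t : orderOf t = 2
  t_central : ∀ g : C, Commute g t
  le : (P : Subgroup C) ≤ H
  ne_top : H ≠ ⊤
  le_normalizer : H ≤ Subgroup.normalizer ((P : Subgroup C) : Set C)
  conj : ∀ a ∈ P, orderOf a = 2 → a ≠ t → ∀ g : C, g * a * g⁻¹ ∈ H → g ∈ H
  exists_z : ∃ z, z ∈ omega (P : Subgroup C) ∧ z ≠ 1 ∧ z ≠ t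
  four : ∃ a b, a ∈ P ∧ b ∈ P ∧ orderOf a = 2 ∧ orderOf b = 2 ∧ a ≠ b ∧ Commute a b ∧ a ≠ t ∧ b ≠ t ∧
    a * b ≠ t

/-- The normal closure of the image of `z` in `C` modulo the core of `H`. -/
def quotClosure (H : Subgroup C) (z : C) : Subgroup (C ⧸ H.normalCore) :=
  Subgroup.normalClosure {QuotientGroup.mk' H.normalCore z}

instance quotClosure_normal (H : Subgroup C) (z : C) : (quotClosure H z).Normal :=
  Subgroup.normalClosure_normal

/-- The central involutions other than `t`. -/
def Other (P : Sylow 2 C) (t z : C) : Prop := z ∈ omega (P : Subgroup C) ∧ z ≠ 1 ∧ z ≠ t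

theorem Other.orderOf {P : Sylow 2 C} {t z : C} (h : Other P t z) : orderOf z = 2 :=
  orderOf_of_mem_omega h.1 h.2.1

theorem Other.mem {P : Sylow 2 C} {t z : C} (h : Other P t z) : z ∈ P := h.1.1

namespace Config

variable {P : Sylow 2 C} {H : Subgroup C} {t : C} (c : Config P H t)
include c

local notation "N" => Subgroup.normalCore H
local notation "f" => QuotientGroup.mk' (Subgroup.normalCore H)
local notation "Hb" => Subgroup.map (QuotientGroup.mk' (Subgroup.normalCore H)) H

theorem two_elt_mem {x : C} (hx : x ∈ H) {k : ℕ} (h : orderOf x = 2 ^ k) : x ∈ P :=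
  mem_sylow_of_two_elt P (c.le_normalizer hx) h

theorem t_mem : t ∈ P := by
  refine mem_sylow_of_two_elt P ?_ (k := 1) (by rw [c.orderOf_t, pow_one])
  exact Subgroup.centralizer_le_normalizer _
    (Subgroup.mem_centralizer_iff.2 fun x _ => (c.t_central x).eq)

theorem t_mem_core : t ∈ N := fun g => by
  rw [(c.t_central g).eq, mul_inv_cancel_right]
  exact c.le c.t_mem

theorem eq_t {v : C} (hv : orderOf v = 2) (hvN : v ∈ N) : v = t := by
  by_contra hne
  refine c.ne_top (eq_top_iff.2 fun g _ => c.conj v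
    (c.two_elt_mem (H.normalCore_le hvN) (k := 1) (by rw [hv, pow_one])) hv hne g ?_)
  exact H.normalCore_le ((inferInstance : (N).Normal).conj_mem v hvN g)

theorem mem_map_iff (g : C) : f g ∈ Hb ↔ g ∈ H := by
  refine ⟨?_, Subgroup.mem_map_of_mem _⟩
  rintro ⟨x, hx, hxg⟩
  have h := H.normalCore_le (QuotientGroup.eq.1 hxg)
  simpa using H.mul_mem hx h

theorem map_ne_top : Hb ≠ ⊤ := fun h =>
  c.ne_top (eq_top_iff.2 fun g _ => (c.mem_map_iff g).1 (h ▸ Subgroup.mem_top _))

theorem normalCore_map : (Hb).normalCore = ⊥ := by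
  refine (Subgroup.eq_bot_iff_forall _).2 fun x hx => ?_
  obtain ⟨g, rfl⟩ := QuotientGroup.mk'_surjective N x
  refine (QuotientGroup.eq_one_iff g).2 ?_
  have : (Hb).normalCore.comap f ≤ N := Subgroup.normal_le_normalCore.2 fun a ha =>
    (c.mem_map_iff a).1 (Subgroup.normalCore_le _ ha)
  exact this hx

theorem map_ne_one {a : C} (ha : orderOf a = 2) (hat : a ≠ t) : f a ≠ 1 := fun h =>
  hat (c.eq_t ha ((QuotientGroup.eq_one_iff a).1 h))

theorem orderOf_map {a : C} (ha : orderOf a = 2) (hat : a ≠ t) : orderOf (f a) = 2 :=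
  orderOf_of_sq (by rw [← map_mul, mul_self ha, map_one]) (c.map_ne_one ha hat)

theorem centralizer_le {a : C} (haP : a ∈ P) (ha : orderOf a = 2) (hat : a ≠ t) :
    Subgroup.centralizer ({f a} : Set (C ⧸ N)) ≤ Hb := by
  intro x hx
  obtain ⟨g, rfl⟩ := QuotientGroup.mk'_surjective N x
  have hc : Commute (f g) (f a) := mem_centralizer_iff_commute.1 hx
  refine (c.mem_map_iff g).2 (c.conj a haP ha hat g ((c.mem_map_iff _).1 ?_))
  rw [map_mul, map_mul, map_inv, hc.eq, mul_inv_cancel_right]
  exact (c.mem_map_iff a).2 (c.le haP)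

theorem other_centralizer_le {z : C} (hz : Other P t z) :
    Subgroup.centralizer ({f z} : Set (C ⧸ N)) ≤ Hb :=
  c.centralizer_le hz.mem hz.orderOf hz.2.2

theorem core_eq_bot : pPrimeCore 2 (C ⧸ N) = ⊥ := by
  haveI : Fact (Nat.Prime 2) := ⟨Nat.prime_two⟩
  haveI := Cores.pPrimeCore_normal 2 (C ⧸ N)
  obtain ⟨a, b, haP, hbP, ha, hb, hab, hc, hat, hbt, habt⟩ := c.four
  have hab2 : orderOf (a * b) = 2 :=
    orderOf_of_sq (by rw [mul_assoc, ← mul_assoc b, ← hc.eq, mul_assoc a b b, mul_self hb, mul_one,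
      mul_self ha]) fun h => hab (by rw [eq_inv_of_mul_eq_one_left h, inv_eq hb])
  have hd := c.orderOf_map ha hat
  have he := c.orderOf_map hb hbt
  have hne : f a ≠ f b := fun e => c.map_ne_one hab2 habt (by rw [map_mul, e, mul_self he])
  haveI := Bender.isMulCommutative_fourOf (mul_self hd) (mul_self he) (hc.map f)
  have hle : pPrimeCore 2 (C ⧸ N) ≤ Hb := by
    refine Coprime.le_of_noncyclic (A := Bender.fourOf (mul_self hd) (mul_self he) (hc.map f))
      (Bender.not_isCyclic_fourOf _ _ _ (ne_one hd) (ne_one he) hne) ?_ ?_ ?_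
    · rw [Subgroup.normalizer_eq_top_iff.2 (inferInstance : (pPrimeCore 2 (C ⧸ N)).Normal)]
      exact le_top
    · obtain ⟨k, hk⟩ := IsPGroup.iff_card.1 (Bender.card_fourOf_dvd (mul_self hd) (mul_self he)
        (hc.map f))
      rw [hk]
      exact (Cores.coprime_card_pPrimeCore (G := C ⧸ N) 2).symm.pow_left k
    · rintro x (rfl | rfl | rfl | rfl) hx1
      · exact absurd rfl hx1
      · exact inf_le_right.trans (c.centralizer_le haP ha hat)
      · exact inf_le_right.trans (c.centralizer_le hbP hb hbt)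
      · rw [← map_mul]
        exact inf_le_right.trans (c.centralizer_le (mul_mem haP hbP) hab2 habt)
  exact eq_bot_iff.2 ((Subgroup.normal_le_normalCore.2 hle).trans c.normalCore_map.le)

theorem conj_other {z g : C} (hz : Other P t z) (hg : g ∈ H) : Other P t (g * z * g⁻¹) := by
  refine ⟨conj_mem_omega (c.le_normalizer hg) hz.1, fun e => hz.2.1 (conj_eq_one_iff.1 e), fun e => ?_⟩
  refine hz.2.2 ?_
  calc z = g⁻¹ * (g * z * g⁻¹) * g := by group
    _ = t := by rw [e, mul_assoc, ← (c.t_central g).eq, inv_mul_cancel_left]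

theorem conj_iff {z : C} (hz : Other P t z) (g : C) : f g * f z * (f g)⁻¹ ∈ Hb ↔ f g ∈ Hb := by
  rw [← map_inv, ← map_mul, ← map_mul, c.mem_map_iff, c.mem_map_iff]
  exact ⟨c.conj z hz.mem hz.orderOf hz.2.2 g,
    fun hg => H.mul_mem (H.mul_mem hg (c.le hz.mem)) (H.inv_mem hg)⟩

theorem stronglyEmbedded (hA : Aschbacher.CoreFreeCriterion.{u}) {z : C} (hz : Other P t z) :
    IsStronglyEmbedded ((Hb).subgroupOf (quotClosure H z)) := by
  haveI : Fact (Nat.Prime 2) := ⟨Nat.prime_two⟩
  have hzb := c.orderOf_map hz.orderOf hz.2.2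
  refine hA (C ⧸ N) (P.mapSurjective (QuotientGroup.mk'_surjective N)) (f z) (Hb) hzb
    ⟨z, hz.mem, rfl⟩ (by rintro _ ⟨s, hs, rfl⟩; exact (hz.1.2.2 s hs).map f) c.map_ne_top
    c.normalCore_map ?_ ?_
  · intro x
    obtain ⟨g, rfl⟩ := QuotientGroup.mk'_surjective N x
    exact c.conj_iff hz g
  · intro x hx hne
    obtain ⟨g, rfl⟩ := QuotientGroup.mk'_surjective N x
    have hcen := c.other_centralizer_le hz (mem_centralizer_iff_commute.2 hx.symm)
    have hg : g ∈ H := (c.mem_map_iff g).1 ((c.conj_iff hz g).1 hcen)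
    have he := c.conj_other hz hg
    have he' : f g * f z * (f g)⁻¹ = f (g * z * g⁻¹) := by rw [map_mul, map_mul, map_inv]
    rw [he'] at hne ⊢
    rw [← map_mul]
    have hcm : Commute z (g * z * g⁻¹) := omega_comm hz.1 he.1
    have hne1 : z * (g * z * g⁻¹) ≠ 1 := fun h => hne (by
      rw [show g * z * g⁻¹ = z from (eq_inv_of_mul_eq_one_right h).trans (inv_eq hz.orderOf)])
    refine c.centralizer_le (mul_mem hz.mem he.mem) (orderOf_of_sq
      ((omega (P : Subgroup C)).mul_mem hz.1 he.1).2.1 hne1) fun h => hne ?_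
    have h1 : f z * f (g * z * g⁻¹) = 1 := by
      rw [← map_mul, h]; exact (QuotientGroup.eq_one_iff t).2 c.t_mem_core
    exact (eq_inv_of_mul_eq_one_right h1).trans (inv_eq hzb)

theorem z_mem_closure (z : C) : f z ∈ quotClosure H z := Subgroup.subset_normalClosure rfl

theorem closure_not_le {z : C} (hz : Other P t z) : ¬ quotClosure H z ≤ Hb := fun h =>
  c.map_ne_one hz.orderOf hz.2.2 (by
    simpa [Subgroup.mem_bot] using
      c.normalCore_map.le (Subgroup.normal_le_normalCore.2 h (c.z_mem_closure z)))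

theorem core_closure (z : C) : pPrimeCore 2 (quotClosure H z) = ⊥ := by
  have h := Cores.pPrimeCore_map_subtype (p := 2) (quotClosure H z)
  rw [c.core_eq_bot, bot_inf_eq, Subgroup.map_eq_bot_iff, Subgroup.ker_subtype] at h
  exact le_bot_iff.1 h

theorem twoInvolutions (hA : Aschbacher.CoreFreeCriterion.{u}) {z : C} (hz : Other P t z) :
    TwoInvolutions (quotClosure H z) := by
  by_contra h2
  have hzb := c.orderOf_map hz.orderOf hz.2.2
  obtain ⟨hsup, -⟩ := Bender.isolated_case h2 (⟨f z, c.z_mem_closure z⟩ : quotClosure H z)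
    (by rw [← Subgroup.orderOf_coe]; exact hzb)
  rw [c.core_closure, bot_sup_eq] at hsup
  refine c.closure_not_le hz fun x hx => c.other_centralizer_le hz (mem_centralizer_iff_commute.2 ?_)
  exact (mem_centralizer_iff_commute.1
    (hsup.ge (Subgroup.mem_top (⟨x, hx⟩ : quotClosure H z)))).map (quotClosure H z).subtype

theorem normalCore_sub (hA : Aschbacher.CoreFreeCriterion.{u}) {z : C} (hz : Other P t z) :
    ((Hb).subgroupOf (quotClosure H z)).normalCore = ⊥ := by
  rw [Bender.core_eq_of_two_involutions (c.stronglyEmbedded hA hz) (c.twoInvolutions hA hz),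
    c.core_closure]

theorem faithful (hA : Aschbacher.CoreFreeCriterion.{u}) {z : C} (hz : Other P t z) :
    FaithfulSMul (quotClosure H z) ((quotClosure H z) ⧸ (Hb).subgroupOf (quotClosure H z)) :=
  Bender.faithful_of_normalCore (c.normalCore_sub hA hz)

theorem exists_setup (hA : Aschbacher.CoreFreeCriterion.{u}) {z : C} (hz : Other P t z) :
    ∃ (t' : quotClosure H z) (Q : Subgroup (quotClosure H z)),
      Cfsg.IsRankOneSetup (quotClosure H z) ((quotClosure H z) ⧸ (Hb).subgroupOf (quotClosure H z))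
        ((1 : quotClosure H z) : (quotClosure H z) ⧸ (Hb).subgroupOf (quotClosure H z)) t' Q :=
  Bender.rankOneHalf _ _ (c.stronglyEmbedded hA hz) (c.normalCore_sub hA hz) (c.twoInvolutions hA hz)

theorem simple (hA : Aschbacher.CoreFreeCriterion.{u}) {z : C} (hz : Other P t z) :
    IsSimpleGroup (quotClosure H z) ∧ ¬ IsMulCommutative (quotClosure H z) := by
  obtain ⟨t', Q, h⟩ := c.exists_setup hA hz
  haveI := c.faithful hA hz
  obtain ⟨L, hL, hodd, hc⟩ := classify kernelShape Suzuki.suzukiShape h (c.twoInvolutions hA hz)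
  have hsimple : IsSimpleGroup L ∧ ¬ IsMulCommutative L := by
    have key : ∀ (Y : Type) (_ : Group Y) (e : L ≃* Y), IsSimpleGroup Y → (¬ ∀ a b : Y, a * b = b * a) →
        IsSimpleGroup L ∧ ¬ IsMulCommutative L := fun Y _ e hY hne => by
      haveI := hY
      haveI : Nontrivial L := e.toEquiv.nontrivial
      exact ⟨IsSimpleGroup.isSimpleGroup_of_surjective e.symm.toMonoidHom e.symm.surjective,
        fun hc => hne fun a b => by
          obtain ⟨a', rfl⟩ := e.surjective a
          obtain ⟨b', rfl⟩ := e.surjective b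
          rw [← map_mul, mul_comm' a' b', map_mul]⟩
    have nonab : ∀ (Y : Type) (_ : Group Y) (_ : Finite Y), IsSimpleGroup Y → Nat.card Y ≠ 0 →
        (∀ p : ℕ, p.Prime → Nat.card Y ≠ p) → ¬ ∀ a b : Y, a * b = b * a := fun Y _ _ hY _ hp hc => by
      letI : CommGroup Y := { (inferInstance : Group Y) with mul_comm := hc }
      exact hp _ IsSimpleGroup.prime_card rfl
    rcases hc with ⟨F, _, _, ⟨n, hn, hF⟩, ⟨e⟩⟩ | ⟨F, _, _, m, hm, hF, ⟨e⟩⟩ | ⟨F, _, _, n, hn, hF, ⟨e⟩⟩
    · have h4 : 4 ≤ Nat.card F := by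
        rw [Nat.card_eq_fintype_card, hF]
        exact Nat.pow_le_pow_right (by norm_num : 1 ≤ 2) hn
      exact key _ _ e (PSL2.isSimpleGroup_psl h4) (PSL2.not_comm_psl (by omega))
    · haveI := Suzuki.isSimpleGroup_sz (F := F) hm hF
      have e1 := e.trans (Suzuki.lieEquiv (F := F) hm hF).symm
      refine key _ _ e1 inferInstance (nonab _ _ inferInstance inferInstance Nat.card_pos.ne' fun p hp hp' => ?_)
      rw [Suzuki.card_sz hm hF] at hp'
      rw [← hp'] at hp
      refine Nat.not_prime_mul ?_ ?_ hp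
      · intro h1
        rw [mul_eq_one] at h1
        have : 2 ≤ 2 ^ (2 * m + 1) := Nat.le_self_pow (by omega) 2
        nlinarith [h1.1]
      · have : 8 ≤ 2 ^ (2 * m + 1) := le_trans (by norm_num)
          (Nat.pow_le_pow_right (by norm_num : 1 ≤ 2) (by omega : 3 ≤ 2 * m + 1))
        omega
    · have h4 : 4 ≤ 2 ^ n := Nat.pow_le_pow_right (by norm_num : 1 ≤ 2) hn
      haveI hs := Unitary.isSimpleGroup_PSU (n := 3) hF (Or.inr ⟨rfl, by omega⟩)
      refine key _ _ e hs (nonab _ _ inferInstance hs Nat.card_pos.ne' fun p hp hp' => ?_)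
      have hcard := Unitary.card_PSU (n := 3) hF (by norm_num)
      rw [hp', Finset.prod_range_succ, Finset.prod_range_succ, Finset.prod_range_succ,
        Finset.prod_range_zero] at hcard
      norm_num [show ¬ Even 1 by decide] at hcard
      have hg : Nat.gcd 3 (2 ^ n + 1) ∣ 3 := Nat.gcd_dvd_left _ _
      have hd : 2 ^ n ∣ p := by
        have h1 : 2 ^ n ∣ Nat.gcd 3 (2 ^ n + 1) * ((2 ^ n + 1) * p) := by
          rw [hcard]; exact (dvd_pow_self _ three_ne_zero).trans (dvd_mul_right _ _)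
        have hco3 : (2 ^ n).Coprime (Nat.gcd 3 (2 ^ n + 1)) :=
          Nat.Coprime.coprime_dvd_right hg ((by norm_num : Nat.Coprime 2 3).pow_left n)
        have hco1 : (2 ^ n).Coprime (2 ^ n + 1) := by simp
        exact hco1.dvd_of_dvd_mul_left (hco3.dvd_of_dvd_mul_left h1)
      rcases (Nat.dvd_prime hp).1 hd with h | h
      · omega
      · rw [← h] at hp
        exact (by omega : n ≠ 1) (Nat.Prime.eq_one_of_pow hp)
  obtain ⟨hLs, hLc⟩ := hsimple
  have hmem : ∀ x : quotClosure H z, x * x = 1 → x ∈ L := fun x hx => by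
    refine (QuotientGroup.eq_one_iff x).1 (orderOf_eq_one_iff.1 (Nat.eq_one_of_dvd_coprimes
      (Nat.coprime_two_left.2 hodd) ?_ (orderOf_dvd_natCard _)))
    exact orderOf_dvd_of_pow_eq_one (by rw [pow_two, ← QuotientGroup.mk_mul, hx, QuotientGroup.mk_one])
  have htop : L = ⊤ := by
    refine eq_top_iff.2 fun x _ => ?_
    have h1 : quotClosure H z ≤ L.map (quotClosure H z).subtype := by
      refine Subgroup.closure_le _ |>.2 fun y hy => ?_
      obtain ⟨_, rfl, hy'⟩ := Group.mem_conjugatesOfSet_iff.1 hy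
      have hyK : y ∈ quotClosure H z := Subgroup.subset_closure hy
      exact ⟨⟨y, hyK⟩, hmem _ (Subtype.ext (mul_self ((orderOf_eq_of_isConj hy').symm.trans
        (c.orderOf_map hz.orderOf hz.2.2)))), rfl⟩
    obtain ⟨w, hw, he⟩ := h1 x.2
    rwa [← Subtype.ext he]
  subst htop
  haveI : Nontrivial (quotClosure H z) := Subgroup.topEquiv.symm.toEquiv.nontrivial
  exact ⟨IsSimpleGroup.isSimpleGroup_of_surjective (Subgroup.topEquiv (G := quotClosure H z)).toMonoidHom
    Subgroup.topEquiv.surjective, fun h => hLc ⟨⟨fun a b => Subtype.ext (mul_comm' (a : quotClosure H z) b)⟩⟩⟩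

/-- `K` does not depend on the involution. -/
theorem closure_eq (hA : Aschbacher.CoreFreeCriterion.{u}) {v w : C} (hv : Other P t v)
    (hw : Other P t w) : quotClosure H v = quotClosure H w := by
  haveI := (c.simple hA hv).1
  haveI := (c.simple hA hw).1
  have key : ∀ {v w : C}, Other P t v → Other P t w → IsSimpleGroup (quotClosure H v) →
      quotClosure H v ≤ quotClosure H w := by
    intro v w hv hw hs
    rcases (inferInstance : ((quotClosure H w).subgroupOf (quotClosure H v)).Normal).eq_bot_or_eq_top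
      with h | h
    · exfalso
      refine c.closure_not_le hw fun x hx => c.other_centralizer_le hv (mem_centralizer_iff_commute.2 ?_)
      exact (Subgroup.commute_of_normal_of_disjoint _ _ inferInstance inferInstance
        (Subgroup.subgroupOf_eq_bot.1 h).symm (f v) x (c.z_mem_closure v) hx).symm
    · exact Subgroup.subgroupOf_eq_top.1 h
  exact le_antisymm (key hv hw inferInstance) (key hw hv inferInstance)

theorem map_mem {v z : C} (hA : Aschbacher.CoreFreeCriterion.{u}) (hv : Other P t v)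
    (hz : Other P t z) : f v ∈ quotClosure H z := c.closure_eq hA hv hz ▸ c.z_mem_closure v

theorem mem_stab_iff {z : C} (x : quotClosure H z) :
    x ∈ stabilizer (quotClosure H z)
        ((1 : quotClosure H z) : (quotClosure H z) ⧸ (Hb).subgroupOf (quotClosure H z)) ↔
      (x : C ⧸ N) ∈ Hb := by
  rw [stabilizer_quotient, Subgroup.mem_subgroupOf]

/-- The involutions of `K` in the point stabiliser are the images of the central involutions. -/
theorem exists_conj (hA : Aschbacher.CoreFreeCriterion.{u}) {z : C} (hz : Other P t z)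
    {x : C ⧸ N} (hx : orderOf x = 2) (hxH : x ∈ Hb) (hxK : x ∈ quotClosure H z) :
    ∃ g ∈ H, f (g * z * g⁻¹) = x := by
  obtain ⟨t', Q, h⟩ := c.exists_setup hA hz
  haveI := c.faithful hA hz
  have hzb := c.orderOf_map hz.orderOf hz.2.2
  obtain ⟨k, hk, hkx⟩ := RankOne.Setup.exists_conj_kk h
    (s := ⟨f z, c.z_mem_closure z⟩) (s' := ⟨x, hxK⟩)
    ⟨(c.mem_stab_iff _).2 ((c.mem_map_iff z).2 (c.le hz.mem)),
      fun e => ne_one hzb (congrArg Subtype.val e), Subtype.ext (mul_self hzb)⟩
    ⟨(c.mem_stab_iff _).2 hxH, fun e => ne_one hx (congrArg Subtype.val e), Subtype.ext (mul_self hx)⟩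
  obtain ⟨g, hg, hge⟩ := (c.mem_stab_iff k).1 hk.1.1
  refine ⟨g⁻¹, inv_mem hg, ?_⟩
  rw [map_mul, map_mul, inv_inv, map_inv, hge]
  exact congrArg Subtype.val hkx

theorem mem_iff (hA : Aschbacher.CoreFreeCriterion.{u}) {z : C} (hz : Other P t z) (x : C ⧸ N) :
    (orderOf x = 2 ∧ x ∈ Hb ∧ x ∈ quotClosure H z) ↔ ∃ w, Other P t w ∧ f w = x := by
  constructor
  · rintro ⟨h1, h2, h3⟩
    obtain ⟨g, hg, e⟩ := c.exists_conj hA hz h1 h2 h3
    exact ⟨_, c.conj_other hz hg, e⟩
  · rintro ⟨w, hw, rfl⟩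
    exact ⟨c.orderOf_map hw.orderOf hw.2.2, (c.mem_map_iff w).2 (c.le hw.mem), c.map_mem hA hw hz⟩

/-- `H` is transitive on the central involutions modulo `t`. -/
theorem trans (hA : Aschbacher.CoreFreeCriterion.{u}) {v w : C} (hv : Other P t v) (hw : Other P t w) :
    ∃ g ∈ H, g * v * g⁻¹ = w ∨ g * v * g⁻¹ = t * w := by
  obtain ⟨g, hg, e⟩ := c.exists_conj hA hv (c.orderOf_map hw.orderOf hw.2.2)
    ((c.mem_map_iff w).2 (c.le hw.mem)) (c.map_mem hA hw hv)
  refine ⟨g, hg, ?_⟩
  have hv' := c.conj_other hv hg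
  have h1 : g * v * g⁻¹ * w ∈ N := (QuotientGroup.eq_one_iff _).1 (by
    show f (g * v * g⁻¹ * w) = 1
    rw [map_mul, e, ← map_mul, mul_self hw.orderOf, map_one])
  by_cases h2 : g * v * g⁻¹ * w = 1
  · exact Or.inl ((eq_inv_of_mul_eq_one_left h2).trans (inv_eq hw.orderOf))
  · refine Or.inr ?_
    rw [← c.eq_t (orderOf_of_mem_omega (mul_mem hv'.1 hw.1) h2) h1]
    calc g * v * g⁻¹ = g * v * g⁻¹ * (w * w) := by rw [mul_self hw.orderOf, mul_one]
      _ = g * v * g⁻¹ * w * w := (mul_assoc _ _ _).symm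

/-- There are two central involutions distinct modulo `t`. -/
theorem exists_two (hA : Aschbacher.CoreFreeCriterion.{u}) :
    ∃ v w, Other P t v ∧ Other P t w ∧ v ≠ w ∧ v * w ≠ t := by
  obtain ⟨z, hz⟩ := c.exists_z
  obtain ⟨t', Q, h⟩ := c.exists_setup hA hz
  haveI := c.faithful hA hz
  obtain ⟨s, s', hs, hs', hne⟩ := RankOne.Setup.exists_two_ii h (c.twoInvolutions hA hz)
  have key : ∀ x : quotClosure H z, x ≠ 1 → x * x = 1 → x ∈ stabilizer (quotClosure H z)
      ((1 : quotClosure H z) : (quotClosure H z) ⧸ (Hb).subgroupOf (quotClosure H z)) →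
      ∃ w, Other P t w ∧ f w = x := fun x h1 h2 h3 =>
    (c.mem_iff hA hz x).1 ⟨(Subgroup.orderOf_coe x).trans (orderOf_of_sq h2 h1),
      (c.mem_stab_iff x).1 h3, x.2⟩
  obtain ⟨v, hv, hvs⟩ := key s hs.2.1 hs.2.2 hs.1
  obtain ⟨w, hw, hws⟩ := key s' hs'.2.1 hs'.2.2 hs'.1
  refine ⟨v, w, hv, hw, fun e => hne (Subtype.ext (by rw [← hvs, ← hws, e])), fun e => hne ?_⟩
  refine Subtype.ext ?_
  rw [← hvs, ← hws]
  have : f v * f w = 1 := by rw [← map_mul, e]; exact (QuotientGroup.eq_one_iff t).2 c.t_mem_core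
  exact (eq_inv_of_mul_eq_one_left this).trans (inv_eq (c.orderOf_map hw.orderOf hw.2.2))

end Config

end Cfsg.Agent.CentralMeet
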