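/-
All involutions of `S` in a centre of order four (owner: helper56).

* `oddPart_mem` : elements of `N(S)` act on `Ω₁Z(S)` like elements of odd order.
* `conclusion_of_four` : the alternatives when `|Ω₁Z(S)| = 4` contains all involutions of `S`.
-/
import Cfsg.Agent.Lib.CentralMeet.Basic
import Cfsg.Agent.Lib.CentralMeet.Conclusion
import Cfsg.Agent.Lib.NormEven.Basic
import Cfsg.Agent.S1237
import Cfsg.Agent.S0949
import Cfsg.Agent.Lib.UFourSylow.Local

set_option autoImplicit false
set_option linter.style.haveILetI false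

namespace Cfsg.Agent.CentralMeet

open Cfsg Involution

universe u

variable {G : Type u} [Group G] [Finite G]

/-- An element of `N(S)` acts on `Ω₁Z(S)` like an element of odd order of `N(S)` and of `⟨n⟩`. -/
theorem oddPart_mem (S : Sylow 2 G) {n : G}
    (hn : n ∈ Subgroup.normalizer ((S : Subgroup G) : Set G)) :
    ∃ v ∈ Subgroup.normalizer ((S : Subgroup G) : Set G), Odd (orderOf v) ∧ v ∈ Subgroup.zpowers n ∧
      ∀ x ∈ omega (S : Subgroup G), v * x * v⁻¹ = n * x * n⁻¹ := by
  obtain ⟨r, v, ⟨k, hr⟩, hv, hnv, hrn, hvn⟩ := NormEven.two_odd_parts n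
  have hrS : r ∈ S := mem_sylow_of_two_elt S ((Subgroup.zpowers_le.2 hn) hrn) hr
  refine ⟨v, (Subgroup.zpowers_le.2 hn) hvn, hv, hvn, fun x hx => ?_⟩
  rw [hnv]
  have h1 : r * (v * x * v⁻¹) * r⁻¹ = v * x * v⁻¹ := mul_inv_eq_iff_eq_mul.2
    ((conj_mem_omega ((Subgroup.zpowers_le.2 hn) hvn) hx).2.2 r hrS).eq
  calc v * x * v⁻¹ = r * (v * x * v⁻¹) * r⁻¹ := h1.symm
    _ = r * v * x * (r * v)⁻¹ := by group

/-- An element of odd order conjugating `x` to `y` does not conjugate `y` to `x`, unless `x = y`. -/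
theorem eq_of_odd_swap {v x : G} (hv : Odd (orderOf v)) (h : v * (v * x * v⁻¹) * v⁻¹ = x) :
    v * x * v⁻¹ = x := Bender.eq_of_sq_fix hv h

theorem klein_sq_one :
    ∀ g : Multiplicative (ZMod (2 ^ 1) × ZMod (2 ^ 1)), g ^ 2 = 1 := by decide

variable [IsSimpleGroup G]

theorem conclusion_of_four (hK : HalfClasses.KleinGW.{u})
    (hTI : Goldschmidt.ThreeInv.ThreeInvTarget.{u})
    (hR : RankOneMeet G) (hG : ¬ IsMulCommutative G) (S : Sylow 2 G)
    (h4 : Nat.card (omega (S : Subgroup G)) = 4)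
    (hall : ∀ x ∈ S, x * x = 1 → x ∈ omega (S : Subgroup G)) : Conclusion G := by
  classical
  haveI : Fact (Nat.Prime 2) := ⟨Nat.prime_two⟩
  haveI := Fintype.ofFinite (omega (S : Subgroup G))
  obtain ⟨t, ht, ht2⟩ := exists_mem_omega S (sylow_ne_bot hG S)
  obtain ⟨n, hn, hne⟩ := exists_moved hR hG ht (ne_one ht2)
  obtain ⟨v, hvN, hvodd, -, hvn⟩ := oddPart_mem S hn
  set b := v * t * v⁻¹ with hb
  have hbt : b ≠ t := by rw [hb, hvn t ht]; exact hne
  set c := v * b * v⁻¹ with hc
  have hbZ : b ∈ omega (S : Subgroup G) := conj_mem_omega hvN ht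
  have hcZ : c ∈ omega (S : Subgroup G) := conj_mem_omega hvN hbZ
  have hct : c ≠ t := fun e => hbt (eq_of_odd_swap hvodd e)
  have hcb : c ≠ b := fun e => hbt (mul_left_cancel (mul_right_cancel (e.trans hb)))
  have ht1 : t ≠ 1 := ne_one ht2
  have hb1 : b ≠ 1 := fun e => ht1 (conj_eq_one_iff.1 e)
  have hc1 : c ≠ 1 := fun e => hb1 (conj_eq_one_iff.1 e)
  have hcover : ∀ x ∈ omega (S : Subgroup G), x = 1 ∨ x = t ∨ x = b ∨ x = c := by
    let f : Fin 4 → omega (S : Subgroup G) := ![1, ⟨t, ht⟩, ⟨b, hbZ⟩, ⟨c, hcZ⟩]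
    have hf : Function.Bijective f := by
      refine (Nat.bijective_iff_injective_and_card f).2 ⟨?_, by rw [h4]; simp⟩
      intro i j e
      have e' := congrArg (fun x : omega (S : Subgroup G) => (x : G)) e
      fin_cases i <;> fin_cases j <;> simp [f, ht1, ht1.symm, hb1, hb1.symm, hc1, hc1.symm, hbt,
        hbt.symm, hct, hct.symm, hcb, hcb.symm] at e' ⊢
    intro x hx
    obtain ⟨i, hi⟩ := hf.2 ⟨x, hx⟩
    have e' := congrArg (fun x : omega (S : Subgroup G) => (x : G)) hi
    fin_cases i <;> simp [f] at e' <;> simp [← e']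
  have hcycle : v * c * v⁻¹ = t := by
    have h := conj_mem_omega hvN hcZ
    rcases hcover _ h with e | e | e | e
    · exact absurd (conj_eq_one_iff.1 e) hc1
    · exact e
    · exact absurd (mul_left_cancel (mul_right_cancel (e.trans hb))) hct
    · exact absurd (mul_left_cancel (mul_right_cancel (e.trans hc))) hcb
  let φ : MulAut ↥(S : Subgroup G) :=
    MulAut.conjNormal (H := (S : Subgroup G).subgroupOf _) ⟨v, hvN⟩ |>
      fun e => (Subgroup.subgroupOfEquivOfLe Subgroup.le_normalizer).symm.trans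
        (e.trans (Subgroup.subgroupOfEquivOfLe Subgroup.le_normalizer))
  have hφ : ∀ x : ↥(S : Subgroup G), ((φ x : ↥(S : Subgroup G)) : G) = v * x * v⁻¹ := fun x => rfl
  have hinv : ∀ x : ↥(S : Subgroup G), orderOf x = 2 → (x : G) = t ∨ (x : G) = b ∨ (x : G) = c := by
    intro x hx
    rw [← Subgroup.orderOf_coe] at hx
    exact (hcover x (hall x x.2 (mul_self hx))).resolve_left (ne_one hx)
  have hpow : ∀ x : ↥(S : Subgroup G), ((φ ^ 2) x : G) = v * (v * x * v⁻¹) * v⁻¹ := fun x => by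
    rw [pow_two, MulAut.mul_apply, hφ, hφ]
  have htrans : ∀ x y : ↥(S : Subgroup G), orderOf x = 2 → orderOf y = 2 →
      ∃ k : ℕ, (φ ^ k) x = y := by
    intro x y hx hy
    rcases hinv x hx with ex | ex | ex <;> rcases hinv y hy with ey | ey | ey
    · exact ⟨0, Subtype.ext (by rw [pow_zero, MulAut.one_apply, ex, ey])⟩
    · exact ⟨1, Subtype.ext (by rw [pow_one, hφ, ex, ey])⟩
    · exact ⟨2, Subtype.ext (by rw [hpow, ex, ey])⟩
    · exact ⟨2, Subtype.ext (by rw [hpow, ex, ey, ← hc, hcycle])⟩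
    · exact ⟨0, Subtype.ext (by rw [pow_zero, MulAut.one_apply, ex, ey])⟩
    · exact ⟨1, Subtype.ext (by rw [pow_one, hφ, ex, ey])⟩
    · exact ⟨1, Subtype.ext (by rw [pow_one, hφ, ex, ey, hcycle])⟩
    · exact ⟨2, Subtype.ext (by rw [hpow, ex, ey, hcycle])⟩
    · exact ⟨0, Subtype.ext (by rw [pow_zero, MulAut.one_apply, ex, ey])⟩
  have h2 : PRankLE 2 2 ↥(S : Subgroup G) := by
    intro A _ hA
    refine (Nat.card_le_card_of_injective (fun a : A => (⟨((a : ↥(S : Subgroup G)) : G),
      hall _ a.1.2 (by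
        have := congrArg Subtype.val (hA _ a.2)
        rw [sq] at this; exact this)⟩ : omega (S : Subgroup G)))
      fun a a' e => Subtype.ext (Subtype.ext
        (congrArg (fun z : omega (S : Subgroup G) => (z : G)) e))).trans ?_
    rw [h4]; norm_num
  have h1 : ¬ PRankLE 2 1 ↥(S : Subgroup G) := by
    intro h
    have := h ((omega (S : Subgroup G)).subgroupOf S) ⟨⟨fun x y => Subtype.ext (Subtype.ext
      (omega_comm (Subgroup.mem_subgroupOf.1 x.2) (Subgroup.mem_subgroupOf.1 y.2)).eq)⟩⟩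
      (fun x hx => Subtype.ext (by
        rw [Subgroup.coe_pow, sq]; exact (Subgroup.mem_subgroupOf.1 hx).2.1))
    rw [Nat.card_congr (Subgroup.subgroupOfEquivOfLe (omega_le _)).toEquiv, h4] at this
    norm_num at this
  letI := Fintype.ofFinite (GaloisField 2 4)
  have hF : Fintype.card (GaloisField 2 4) = 16 := by
    rw [← Nat.card_eq_fintype_card, GaloisField.card 2 4 (by norm_num)]; norm_num
  obtain ⟨P⟩ := (inferInstance : Nonempty (Sylow 2 (Cfsg.PSU 3 (GaloisField 2 4) 4)))
  rcases S1237.result S.isPGroup' h2 h1 φ htrans hF P with ⟨m, hm, ⟨e⟩⟩ | he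
  · rcases Nat.lt_or_ge m 2 with hm2 | hm2
    · obtain rfl : m = 1 := by omega
      haveI : IsKleinFour (Multiplicative (ZMod (2 ^ 1) × ZMod (2 ^ 1))) :=
        { card_four := by simp
          exponent_two := by
            refine (Nat.prime_two.eq_one_or_self_of_dvd _ ?_).resolve_left ?_
            · exact Monoid.exponent_dvd_of_forall_pow_eq_one klein_sq_one
            · rw [Monoid.exp_eq_one_iff]; exact not_subsingleton _ }
      haveI : IsKleinFour ↥(S : Subgroup G) :=
        { card_four := by rw [Nat.card_congr e.toEquiv, IsKleinFour.card_four]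
          exponent_two := by rw [Monoid.exponent_eq_of_mulEquiv e, IsKleinFour.exponent_two] }
      exact conclusion_of_klein hK hG S inferInstance
    · exfalso
      have hO : ∀ N : Subgroup G, N.Normal → Odd (Nat.card N) → N = ⊥ := fun N hN hodd =>
        (hN.eq_bot_or_eq_top).resolve_right fun htop => by
          rw [htop, Subgroup.card_top] at hodd
          exact Nat.not_even_iff_odd.2 hodd (even_iff_two_dvd.2 (ht2 ▸ orderOf_dvd_natCard t))
      obtain ⟨hn', -, -⟩ := S0949.result S m hm2 e hO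
      rcases hn'.eq_bot_or_eq_top with h | h
      · exact sylow_ne_bot hG S h
      · exact normalizer_ne_top hG S (by rw [h]; exact Subgroup.normalizer_eq_top_iff.2 inferInstance)
  · obtain ⟨e⟩ := he
    obtain ⟨H, hH⟩ := hTI G S (UFourSylow.omegaOne S)
      (UFourSylow.setting ((UFourSylow.usylow_psu hF P).congr e.symm))
    exact conclusion_of_stronglyEmbedded hH

end Cfsg.Agent.CentralMeet
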