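/-
The centraliser of a central involution not in `N(S)`: the configuration, and `|Ω₁Z(S)| = 8`
(owner: helper56).

* `sylowCent`, `meetCent` : the Sylow 2-subgroup and `N(S)` inside `C(t)`.
* `mkConfig` : the configuration of `Local.lean`.
* `exists_cycle` : `|Ω₁Z(S)| = 8` and some element of `N(S)` cycles its involutions.
-/
import Cfsg.Agent.Lib.CentralMeet.Small
import Cfsg.Agent.Lib.CentralMeet.Local
import Cfsg.Agent.Lib.CentralMeet.Count

set_option autoImplicit false
set_option linter.style.haveILetI false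

namespace Cfsg.Agent.CentralMeet

open Cfsg Involution

universe u

variable {G : Type u} [Group G] [Finite G]

theorem sylow_le_cent {S : Sylow 2 G} {t : G} (ht : t ∈ omega (S : Subgroup G)) :
    (S : Subgroup G) ≤ Subgroup.centralizer ({t} : Set G) :=
  fun s hs => mem_centralizer_iff_commute.2 (ht.2.2 s hs)

/-- `S` inside `C(t)`. -/
noncomputable def sylowCent {S : Sylow 2 G} {t : G} (ht : t ∈ omega (S : Subgroup G)) :
    Sylow 2 (Subgroup.centralizer ({t} : Set G)) :=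
  S.subtype (sylow_le_cent ht)

/-- `N(S)` inside `C(t)`. -/
def meetCent (S : Sylow 2 G) (t : G) : Subgroup (Subgroup.centralizer ({t} : Set G)) :=
  (Subgroup.normalizer ((S : Subgroup G) : Set G)).subgroupOf _

/-- `t` as an element of its centraliser. -/
def selfCent (t : G) : Subgroup.centralizer ({t} : Set G) :=
  ⟨t, mem_centralizer_singleton.2 rfl⟩

theorem mem_sylowCent {S : Sylow 2 G} {t : G} (ht : t ∈ omega (S : Subgroup G))
    (x : Subgroup.centralizer ({t} : Set G)) : x ∈ sylowCent ht ↔ (x : G) ∈ S := by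
  show x ∈ ((sylowCent ht : Sylow 2 _) : Subgroup _) ↔ _
  rw [sylowCent, Sylow.coe_subtype, Subgroup.mem_subgroupOf]
  rfl

theorem mem_omega_sylowCent {S : Sylow 2 G} {t : G} (ht : t ∈ omega (S : Subgroup G))
    (x : Subgroup.centralizer ({t} : Set G)) :
    x ∈ omega ((sylowCent ht : Sylow 2 _) : Subgroup (Subgroup.centralizer ({t} : Set G))) ↔
      (x : G) ∈ omega (S : Subgroup G) := by
  constructor
  · rintro ⟨h1, h2, h3⟩
    refine ⟨(mem_sylowCent ht x).1 h1, congrArg Subtype.val h2, fun s hs => ?_⟩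
    exact congrArg Subtype.val (h3 ⟨s, sylow_le_cent ht hs⟩ ((mem_sylowCent ht _).2 hs))
  · rintro ⟨h1, h2, h3⟩
    exact ⟨(mem_sylowCent ht x).2 h1, Subtype.ext h2, fun s hs =>
      Subtype.ext (h3 _ ((mem_sylowCent ht s).1 hs))⟩

variable [IsSimpleGroup G]

/-- A four group of `S` avoiding `t`. -/
theorem exists_four (hR : RankOneMeet G) (hG : ¬ IsMulCommutative G) {S : Sylow 2 G} {t : G}
    (ht : t ∈ omega (S : Subgroup G)) (ht1 : t ≠ 1)
    (hbig : ¬ (Nat.card (omega (S : Subgroup G)) = 4 ∧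
      ∀ x ∈ S, x * x = 1 → x ∈ omega (S : Subgroup G))) :
    ∃ a b, a ∈ omega (S : Subgroup G) ∧ b ∈ S ∧ orderOf a = 2 ∧ orderOf b = 2 ∧ a ≠ b ∧ Commute a b ∧
      a ≠ t ∧ b ≠ t ∧ a * b ≠ t := by
  classical
  haveI : Fact (Nat.Prime 2) := ⟨Nat.prime_two⟩
  set Z := omega (S : Subgroup G)
  have h4 : 4 ≤ Nat.card Z := omega_four_le hR hG S
  have hz : ∃ z ∈ Z, z ≠ 1 ∧ z ≠ t := by
    by_contra hcon
    push Not at hcon
    have : Nat.card Z ≤ Nat.card Bool := Nat.card_le_card_of_injective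
      (fun z => decide ((z : G) = 1)) fun z z' e => Subtype.ext (by
        have e' : ((z : G) = 1) ↔ ((z' : G) = 1) := decide_eq_decide.1 e
        by_cases h : (z : G) = 1
        · rw [h, e'.1 h]
        · rw [hcon _ z.2 h, hcon _ z'.2 fun h' => h (e'.2 h')])
    rw [Nat.card_eq_fintype_card (α := Bool), Fintype.card_bool] at this
    omega
  obtain ⟨z, hzZ, hz1, hzt⟩ := hz
  have htz : Commute t z := omega_comm ht hzZ
  have key : ∀ b ∈ S, b * b = 1 → b ≠ 1 → b ≠ t → b ≠ z → b ≠ t * z →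
      ∃ a b, a ∈ Z ∧ b ∈ S ∧ orderOf a = 2 ∧ orderOf b = 2 ∧ a ≠ b ∧ Commute a b ∧
        a ≠ t ∧ b ≠ t ∧ a * b ≠ t := fun b hb hb2 hb1 hbt hbz hbtz =>
    ⟨z, b, hzZ, hb, orderOf_of_sq hzZ.2.1 hz1, orderOf_of_sq hb2 hb1, hbz.symm, (hzZ.2.2 b hb).symm,
      hzt, hbt, fun h => hbtz (by
        rw [← h, ← (hzZ.2.2 b hb).eq, mul_assoc, hzZ.2.1, mul_one])⟩
  by_cases hall : ∀ x ∈ S, x * x = 1 → x ∈ Z
  · have hne : Nat.card Z ≠ 4 := fun h => hbig ⟨h, hall⟩
    by_contra hcon
    have hsub : ∀ w ∈ Z, w = 1 ∨ w = t ∨ w = z ∨ w = t * z := by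
      intro w hw
      by_contra h
      push Not at h
      exact hcon (key w hw.1 hw.2.1 h.1 h.2.1 h.2.2.1 h.2.2.2)
    let f : Fin 4 → Z := ![1, ⟨t, ht⟩, ⟨z, hzZ⟩, ⟨t * z, mul_mem ht hzZ⟩]
    have hf : Function.Surjective f := by
      rintro ⟨w, hw⟩
      rcases hsub w hw with rfl | rfl | rfl | rfl
      · exact ⟨0, rfl⟩
      · exact ⟨1, rfl⟩
      · exact ⟨2, rfl⟩
      · exact ⟨3, rfl⟩
    have := Nat.card_le_card_of_surjective f hf
    rw [Nat.card_eq_fintype_card (α := Fin 4), Fintype.card_fin] at this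
    omega
  · push Not at hall
    obtain ⟨b, hb, hb2, hbZ⟩ := hall
    exact key b hb hb2 (fun h => hbZ (h ▸ one_mem Z)) (fun h => hbZ (h ▸ ht)) (fun h => hbZ (h ▸ hzZ))
      (fun h => hbZ (h ▸ mul_mem ht hzZ))

theorem mkConfig (hR : RankOneMeet G) (hG : ¬ IsMulCommutative G) {S : Sylow 2 G} {t : G}
    (ht : t ∈ omega (S : Subgroup G)) (ht1 : t ≠ 1)
    (hnot : ¬ Subgroup.centralizer ({t} : Set G) ≤ Subgroup.normalizer ((S : Subgroup G) : Set G))
    (hbig : ¬ (Nat.card (omega (S : Subgroup G)) = 4 ∧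
      ∀ x ∈ S, x * x = 1 → x ∈ omega (S : Subgroup G))) :
    Config (sylowCent ht) (meetCent S t) (selfCent t) := by
  obtain ⟨a, b, haZ, hb, ha2, hb2, hab, hc, hat, hbt, habt⟩ := exists_four hR hG ht ht1 hbig
  have hinj : ∀ {x y : Subgroup.centralizer ({t} : Set G)}, x ≠ y → (x : G) ≠ y :=
    fun h e => h (Subtype.ext e)
  have haC : a ∈ Subgroup.centralizer ({t} : Set G) := sylow_le_cent ht haZ.1
  have hbC : b ∈ Subgroup.centralizer ({t} : Set G) := sylow_le_cent ht hb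
  exact
  { orderOf_t := by rw [← Subgroup.orderOf_coe]; exact orderOf_of_mem_omega ht ht1
    t_central := fun g => Subtype.ext (mem_centralizer_iff_commute.1 g.2).eq
    le := fun x hx => Subgroup.mem_subgroupOf.2 (Subgroup.le_normalizer ((mem_sylowCent ht x).1 hx))
    ne_top := fun h => hnot (by rwa [meetCent, Subgroup.subgroupOf_eq_top] at h)
    le_normalizer := fun g hg => Subgroup.mem_normalizer_iff.2 fun x => by
      show x ∈ sylowCent ht ↔ g * x * g⁻¹ ∈ sylowCent ht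
      rw [mem_sylowCent, mem_sylowCent]
      exact Subgroup.mem_normalizer_iff.1 (Subgroup.mem_subgroupOf.1 hg) x
    conj := fun x hxP hx hxt g hg => by
      rw [← Subgroup.orderOf_coe] at hx
      have hxS : (x : G) ∈ S := (mem_sylowCent ht x).1 hxP
      refine Subgroup.mem_subgroupOf.2 (mem_normalizer_of_pair hR (a := (x : G)) (b := t) hx
        (orderOf_of_mem_omega ht ht1) (fun e => hxt (Subtype.ext e)) (ht.2.2 _ hxS) hxS ht.1
        (Or.inr (Or.inl (central_of_mem_omega ht))) ?_ ?_)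
      · refine mem_sylow_of_two_elt S (Subgroup.mem_subgroupOf.1 hg) (k := 1) ?_
        rw [orderOf_conj, hx, pow_one]
      · rw [(mem_centralizer_iff_commute.1 g.2).eq, mul_inv_cancel_right]
        exact ht.1
    exists_z := ⟨⟨a, haC⟩, (mem_omega_sylowCent ht _).2 haZ,
      fun e => ne_one ha2 (congrArg Subtype.val e), fun e => hat (congrArg Subtype.val e)⟩
    four := ⟨⟨a, haC⟩, ⟨b, hbC⟩, (mem_sylowCent ht _).2 haZ.1, (mem_sylowCent ht _).2 hb,
      by rwa [← Subgroup.orderOf_coe], by rwa [← Subgroup.orderOf_coe],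
      fun e => hab (congrArg Subtype.val e), Subtype.ext hc.eq, fun e => hat (congrArg Subtype.val e),
      fun e => hbt (congrArg Subtype.val e), fun e => habt (congrArg Subtype.val e)⟩ }

/-- `Ω₁Z(S)` has order eight and its involutions are cycled by an element of `N(S)`. -/
theorem exists_cycle (hA : Aschbacher.CoreFreeCriterion.{u}) (hR : RankOneMeet G)
    (hG : ¬ IsMulCommutative G) {S : Sylow 2 G} {t : G}
    (ht : t ∈ omega (S : Subgroup G)) (ht1 : t ≠ 1)
    (c : Config (sylowCent ht) (meetCent S t) (selfCent t)) :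
    Nat.card (omega (S : Subgroup G)) = 8 ∧
      ∃ y ∈ Subgroup.normalizer ((S : Subgroup G) : Set G),
        ∀ v ∈ omega (S : Subgroup G), ∀ w ∈ omega (S : Subgroup G), v ≠ 1 → w ≠ 1 →
          ∃ k : ℕ, y ^ k * v * (y ^ k)⁻¹ = w := by
  haveI : Fact (Nat.Prime 2) := ⟨Nat.prime_two⟩
  set Z := omega (S : Subgroup G) with hZ
  set M := Subgroup.normalizer ((S : Subgroup G) : Set G) with hM
  letI : CommGroup Z :=
    { (inferInstance : Group Z) with mul_comm := fun a b => Subtype.ext (omega_comm a.2 b.2).eq }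
  let φ : M →* MulAut Z :=
    { toFun := fun n =>
        { toFun := fun z => ⟨(n : G) * z * (n : G)⁻¹, conj_mem_omega n.2 z.2⟩
          invFun := fun z => ⟨(n : G)⁻¹ * z * (n : G)⁻¹⁻¹, conj_mem_omega (inv_mem n.2) z.2⟩
          left_inv := fun z => Subtype.ext (by simp [mul_assoc])
          right_inv := fun z => Subtype.ext (by simp [mul_assoc])
          map_mul' := fun a b => Subtype.ext (by simp [mul_assoc]) }
      map_one' := MulEquiv.ext fun z => Subtype.ext (by simp)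
      map_mul' := fun a b => MulEquiv.ext fun z => Subtype.ext (by
        show ((a * b : M) : G) * z * ((a * b : M) : G)⁻¹ = a * (b * z * (b : G)⁻¹) * (a : G)⁻¹
        rw [Subgroup.coe_mul]; group) }
  have hφ : ∀ (n : M) (z : Z), ((φ n z : Z) : G) = n * z * (n : G)⁻¹ := fun n z => rfl
  have hodd : Odd (Nat.card φ.range) := by
    rw [← Nat.not_even_iff_odd, even_iff_two_dvd]
    intro h2
    obtain ⟨⟨_, n, rfl⟩, hn⟩ := exists_prime_orderOf_dvd_card' (G := φ.range) 2 h2
    rw [← Subgroup.orderOf_coe] at hn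
    change orderOf (φ n) = 2 at hn
    obtain ⟨v, hv, hvodd, -, hvn⟩ := oddPart_mem S n.2
    have e : φ ⟨v, hv⟩ = φ n := MulEquiv.ext fun z => Subtype.ext (by
      rw [hφ, hφ]; exact hvn _ z.2)
    have h1 : orderOf (φ ⟨v, hv⟩) ∣ orderOf v := by
      rw [← Subgroup.orderOf_mk v hv]; exact orderOf_map_dvd φ _
    rw [e, hn] at h1
    exact Nat.not_even_iff_odd.2 hvodd (even_iff_two_dvd.2 h1)
  have hmem : ∀ {x : Z}, x ≠ 1 → x ≠ (⟨t, ht⟩ : Z) →
      Other (sylowCent ht) (selfCent t) (⟨x, sylow_le_cent ht (omega_le _ x.2)⟩ :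
        Subgroup.centralizer ({t} : Set G)) := fun {x} h1 h2 =>
    ⟨(mem_omega_sylowCent ht _).2 x.2,
      fun e => h1 (Subtype.ext (show (x : G) = 1 from congrArg Subtype.val e)),
      fun e => h2 (Subtype.ext (show (x : G) = t from congrArg Subtype.val e))⟩
  obtain ⟨h8, γ, ⟨y, rfl⟩, hγ⟩ := exists_seven (A := Z) (fun a => Subtype.ext a.2.2.1) φ.range hodd
    (t := ⟨t, ht⟩) (fun e => ht1 (congrArg Subtype.val e)) (by
      obtain ⟨n, hn, hne⟩ := exists_moved hR hG ht ht1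
      exact ⟨φ ⟨n, hn⟩, ⟨_, rfl⟩, fun e => hne (congrArg Subtype.val e)⟩)
    (fun v w hv1 hvt hw1 hwt => by
      obtain ⟨g, hg, h⟩ := c.trans hA (hmem hv1 hvt) (hmem hw1 hwt)
      refine ⟨φ ⟨g, Subgroup.mem_subgroupOf.1 hg⟩, ⟨_, rfl⟩, Subtype.ext ?_, ?_⟩
      · rw [hφ]
        exact mul_inv_eq_iff_eq_mul.2 (mem_centralizer_iff_commute.1 g.2).eq
      · exact h.imp (fun e => Subtype.ext (by
          rw [hφ]; exact congrArg (fun z : Subgroup.centralizer ({t} : Set G) => (z : G)) e))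
          (fun e => Subtype.ext (by
          rw [hφ]; exact congrArg (fun z : Subgroup.centralizer ({t} : Set G) => (z : G)) e)))
    (by
      obtain ⟨v, w, hv, hw, hne, hvw⟩ := c.exists_two hA
      refine ⟨⟨v, (mem_omega_sylowCent ht v).1 hv.1⟩, ⟨w, (mem_omega_sylowCent ht w).1 hw.1⟩,
        ?_, ?_, ?_, ?_, ?_, ?_⟩
      · exact fun e => hv.2.1 (Subtype.ext (show (v : G) = 1 from congrArg (fun z : Z => (z : G)) e))
      · exact fun e => hv.2.2 (Subtype.ext (congrArg (fun z : Z => (z : G)) e))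
      · exact fun e => hw.2.1 (Subtype.ext (show (w : G) = 1 from congrArg (fun z : Z => (z : G)) e))
      · exact fun e => hw.2.2 (Subtype.ext (congrArg (fun z : Z => (z : G)) e))
      · exact fun e => hne (Subtype.ext (congrArg (fun z : Z => (z : G)) e))
      · exact fun e => hvw (Subtype.ext (congrArg (fun z : Z => (z : G)) e)))
  refine ⟨h8, y, y.2, fun v hv w hw hv1 hw1 => ?_⟩
  obtain ⟨k, hk⟩ := hγ ⟨v, hv⟩ ⟨w, hw⟩ (fun e => hv1 (congrArg Subtype.val e))
    (fun e => hw1 (congrArg Subtype.val e))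
  refine ⟨k, ?_⟩
  rw [← map_pow] at hk
  have e2 := hφ (y ^ k) ⟨v, hv⟩
  rw [hk, Subgroup.coe_pow] at e2
  exact e2.symm

end Cfsg.Agent.CentralMeet
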