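/-
Recognising `C₂ × A₅` (owner: helper56).

* `mdl_of_quotient` : a central involution, abelian Sylow 2-subgroups and a simple quotient of order
  sixty by that involution.
-/
import Cfsg.Agent.Lib.JankoOneOrder.Main
import Cfsg.Agent.Lib.Transfer.AbelianHall
import Cfsg.Agent.S0494

set_option autoImplicit false
set_option linter.style.haveILetI false

namespace Cfsg.Agent.CentralMeet

open Cfsg

universe u

theorem mdl_of_quotient {C : Type u} [Group C] [Finite C] (P : Sylow 2 C)
    (hP : IsMulCommutative ↥(P : Subgroup C)) (N : Subgroup C) [N.Normal] {t : C} (htN : t ∈ N)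
    (htP : t ∈ P) (htc : ∀ g, Commute g t) (hN : ∀ x ∈ N, x = 1 ∨ x = t) (ht1 : t ≠ 1)
    (h60 : Nat.card (C ⧸ N) = 60) (hs : IsSimpleGroup (C ⧸ N)) :
    Nonempty (C ≃* JankoOneOrder.Mdl) := by
  haveI : Fact (Nat.Prime 2) := ⟨Nat.prime_two⟩
  obtain ⟨e1⟩ := S0494.result h60
  set f := QuotientGroup.mk' N with hf
  have hfs : Function.Surjective f := QuotientGroup.mk'_surjective N
  -- `t` is no commutator
  have htC : t ∉ commutator C := fun h => ht1 (Subgroup.mem_bot.1
    ((Transfer.inf_commutator_inf_center_eq_bot (P : Subgroup C) hP P.card_coprime_index).le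
      ⟨⟨htP, h⟩, Subgroup.mem_center_iff.2 fun g => (htc g).eq⟩))
  -- the commutator subgroup covers the quotient
  have hperf : (commutator C).map f = ⊤ := by
    rw [commutator_def, Subgroup.map_commutator, Subgroup.map_top_of_surjective _ hfs, ← commutator_def]
    refine (inferInstance : (commutator (C ⧸ N)).Normal).eq_bot_or_eq_top.resolve_left fun h => ?_
    have hcomm : ∀ a b : C ⧸ N, a * b = b * a := fun a b => by
      have := Subgroup.commutator_mem_commutator (Subgroup.mem_top a) (Subgroup.mem_top b)
      rw [← commutator_def, h, Subgroup.mem_bot, commutatorElement_eq_one_iff_mul_comm] at this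
      exact this
    letI : CommGroup (C ⧸ N) := { (inferInstance : Group (C ⧸ N)) with mul_comm := hcomm }
    have := IsSimpleGroup.prime_card (α := C ⧸ N)
    rw [h60] at this
    norm_num at this
  have hdisj : ∀ x ∈ commutator C, x ∈ N → x = 1 := fun x hx hxN =>
    (hN x hxN).resolve_right fun e => htC (e ▸ hx)
  have hC60 : Nat.card (commutator C) = 60 := by
    rw [← h60]
    refine Nat.card_eq_of_bijective (fun x : commutator C => f x) ⟨fun x y e => ?_, fun q => ?_⟩
    · have h1 : (x : C)⁻¹ * y ∈ N := QuotientGroup.eq.1 e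
      exact Subtype.ext (inv_mul_eq_one.1 (hdisj _ (mul_mem (inv_mem x.2) y.2) h1))
    · obtain ⟨x, hx, rfl⟩ := hperf.ge (Subgroup.mem_top q)
      exact ⟨⟨x, hx⟩, rfl⟩
  have hNc : Nat.card N = 2 := by
    refine (Nat.card_congr (Equiv.ofBijective (fun x : Bool => if x then (⟨t, htN⟩ : N) else 1)
      ⟨?_, ?_⟩)).symm.trans (by simp)
    · intro a b e
      cases a <;> cases b <;> simp [Subtype.ext_iff, ht1, Ne.symm ht1] at e ⊢
    · intro x
      rcases hN x x.2 with e | e
      · exact ⟨false, Subtype.ext (by simp [e])⟩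
      · exact ⟨true, Subtype.ext (by simp [e])⟩
  have hC : Nat.card C = 120 := by
    rw [Subgroup.card_eq_card_quotient_mul_card_subgroup N, h60, hNc]
  have hidx : Nat.card (C ⧸ commutator C) = 2 := by
    have h := Subgroup.card_eq_card_quotient_mul_card_subgroup (commutator C)
    rw [hC, hC60] at h
    omega
  let e2 : (C ⧸ commutator C) ≃* Multiplicative (ZMod 2) :=
    mulEquivOfPrimeCardEq (p := 2) hidx (by simp)
  let φ : C →* (C ⧸ commutator C) × (C ⧸ N) := (QuotientGroup.mk' (commutator C)).prod f
  have hinj : Function.Injective φ := by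
    rw [injective_iff_map_eq_one]
    intro x hx
    exact hdisj x ((QuotientGroup.eq_one_iff x).1 (congrArg Prod.fst hx))
      ((QuotientGroup.eq_one_iff x).1 (congrArg Prod.snd hx))
  have hbij : Function.Bijective φ := (Nat.bijective_iff_injective_and_card φ).2
    ⟨hinj, by rw [Nat.card_prod, hidx, h60, hC]⟩
  exact ⟨(MulEquiv.ofBijective φ hbij).trans (MulEquiv.prodCongr e2 e1)⟩

end Cfsg.Agent.CentralMeet
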