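/-
A 2-group with one involution has no nontrivial automorphism of 5-power order (owner: helper56).

* `eq_one_of_five` : an automorphism of order `5 ^ k` of such a group is trivial.
-/
import Cfsg.Agent.EqLemmas
import Cfsg.Agent.Lib.PGroup.UniqueOrderP

set_option autoImplicit false
set_option linter.style.haveILetI false

namespace Cfsg.Agent.CentralMeet

open Cfsg
open scoped Pointwise

universe u

variable {R : Type u} [Group R] [Finite R]

/-- A cyclic subgroup of index at most two. -/
theorem exists_cyclic_index (hR : IsPGroup 2 R)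
    (huniq : ∀ x y : R, orderOf x = 2 → orderOf y = 2 → x = y) :
    ∃ a : R, (Subgroup.zpowers a).index ≤ 2 := by
  haveI : Fact (Nat.Prime 2) := ⟨Nat.prime_two⟩
  rcases PGroup.unique_order_p_cases hR (fun x y hx hy => by
    rcases (Nat.dvd_prime Nat.prime_two).mp (orderOf_dvd_of_pow_eq_one hy) with h | h
    · rw [orderOf_eq_one_iff.mp h]; exact one_mem _
    · rw [huniq y x h hx]; exact Subgroup.mem_zpowers _) with h | ⟨-, n, ⟨e⟩⟩
  · obtain ⟨a, ha⟩ := h.exists_generator
    refine ⟨a, ?_⟩
    rw [show Subgroup.zpowers a = ⊤ from eq_top_iff.2 fun x _ => ha x, Subgroup.index_top]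
    norm_num
  · haveI : NeZero (2 ^ n) := ⟨by positivity⟩
    refine ⟨e.symm (QuaternionGroup.a 1), ?_⟩
    have hcard : Nat.card (Subgroup.zpowers (e.symm (QuaternionGroup.a (n := 2 ^ n) 1))) = 2 * 2 ^ n := by
      rw [Nat.card_zpowers, MulEquiv.orderOf_eq, QuaternionGroup.orderOf_a_one]
    have htot : Nat.card R = 4 * 2 ^ n := by
      rw [Nat.card_congr e.toEquiv, Nat.card_eq_fintype_card, QuaternionGroup.card]
    have h := Subgroup.card_mul_index (Subgroup.zpowers (e.symm (QuaternionGroup.a (n := 2 ^ n) 1)))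
    rw [hcard, htot] at h
    have hpos : 0 < 2 ^ n := by positivity
    nlinarith

theorem index_eq_two_of_le (a : R) (h : (Subgroup.zpowers a).index ≤ 2)
    (hne : Subgroup.zpowers a ≠ ⊤) : (Subgroup.zpowers a).index = 2 := by
  have h1 : (Subgroup.zpowers a).index ≠ 0 := Subgroup.index_ne_zero_of_finite
  have h2 : (Subgroup.zpowers a).index ≠ 1 := fun e => hne (Subgroup.index_eq_one.1 e)
  omega

/-- Two subgroups of index two agreeing on two generators are equal. -/
theorem eq_of_index_two {B B' : Subgroup R} (hB : B.index = 2) (hB' : B'.index = 2) {s : Set R}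
    (hs : Subgroup.closure s = ⊤) (h : ∀ x ∈ s, x ∈ B ↔ x ∈ B') : B = B' := by
  let D : Subgroup R :=
    { carrier := {x | x ∈ B ↔ x ∈ B'}
      one_mem' := by simp [one_mem]
      mul_mem' := fun {x y} hx hy => by
        show x * y ∈ B ↔ x * y ∈ B'
        rw [Subgroup.mul_mem_iff_of_index_two hB, Subgroup.mul_mem_iff_of_index_two hB']
        exact iff_congr hx hy
      inv_mem' := fun {x} hx => by
        show x⁻¹ ∈ B ↔ x⁻¹ ∈ B'
        rw [inv_mem_iff, inv_mem_iff]; exact hx }
  have hD : Subgroup.closure s ≤ D := (Subgroup.closure_le _).2 h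
  rw [hs] at hD
  exact Subgroup.ext fun x => hD (Subgroup.mem_top x)

/-- An automorphism of 5-power order of a 2-group with one involution is trivial. -/
theorem eq_one_of_five (hR : IsPGroup 2 R)
    (huniq : ∀ x y : R, orderOf x = 2 → orderOf y = 2 → x = y) (α : MulAut R) {k : ℕ}
    (hα : α ^ (5 ^ k) = 1) : α = 1 := by
  classical
  haveI : Fact (Nat.Prime 2) := ⟨Nat.prime_two⟩
  obtain ⟨a, ha⟩ := exists_cyclic_index hR huniq
  set A := Subgroup.zpowers a with hA
  -- `α` fixes `A`
  have hmap : A.map (α : R →* R) = A := by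
    by_cases htop : A = ⊤
    · rw [htop, Subgroup.map_top_of_surjective _ α.surjective]
    have h2 := index_eq_two_of_le a ha htop
    obtain ⟨x, -, hx⟩ := SetLike.exists_of_lt (lt_top_iff_ne_top.2 htop)
    have hgen : Subgroup.closure ({a, x} : Set R) = ⊤ := by
      have hle : A ≤ Subgroup.closure ({a, x} : Set R) :=
        Subgroup.zpowers_le.2 (Subgroup.subset_closure (Set.mem_insert _ _))
      have hd := Subgroup.index_dvd_of_le hle
      rw [h2] at hd
      rcases (Nat.dvd_prime Nat.prime_two).1 hd with e | e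
      · exact Subgroup.index_eq_one.1 e
      · exfalso
        have := Subgroup.relIndex_mul_index hle
        rw [h2, e] at this
        have h1 : A.relIndex (Subgroup.closure ({a, x} : Set R)) = 1 :=
          Nat.eq_of_mul_eq_mul_right two_pos (this.trans (one_mul 2).symm)
        exact hx (Subgroup.relIndex_eq_one.1 h1
          (Subgroup.subset_closure (Set.mem_insert_of_mem _ rfl)))
    set T := Subgroup.zpowers α
    letI : MulAction T (Subgroup R) := MulAction.compHom (Subgroup R) T.subtype
    have hidx : ∀ B : MulAction.orbit T A, (B : Subgroup R).index = 2 := by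
      rintro ⟨_, ⟨τ, rfl⟩⟩
      exact (Subgroup.index_map_equiv A (τ : MulAut R)).trans h2
    have hle : Nat.card (MulAction.orbit T A) ≤ 4 := by
      have := Nat.card_le_card_of_injective
        (fun B : MulAction.orbit T A => (decide (a ∈ (B : Subgroup R)), decide (x ∈ (B : Subgroup R))))
        fun B B' e => Subtype.ext (eq_of_index_two (hidx B) (hidx B') hgen (by
          rintro y (rfl | rfl)
          · exact decide_eq_decide.1 (congrArg Prod.fst e)
          · exact decide_eq_decide.1 (congrArg Prod.snd e)))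
      simpa using this
    have hdvd : Nat.card (MulAction.orbit T A) ∣ 5 ^ k := by
      refine dvd_trans ?_ ((Nat.card_zpowers α).dvd.trans (orderOf_dvd_of_pow_eq_one hα))
      rw [Nat.card_coe_set_eq, ← MulAction.index_stabilizer]
      exact Subgroup.index_dvd_card _
    have hone : Nat.card (MulAction.orbit T A) = 1 := by
      obtain ⟨j, -, hj⟩ := (Nat.dvd_prime_pow (by norm_num : Nat.Prime 5)).1 hdvd
      rcases j with _ | j
      · simpa using hj
      · rw [hj] at hle
        have : 5 ≤ 5 ^ (j + 1) := Nat.le_self_pow (by omega) 5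
        omega
    obtain ⟨hsub, -⟩ := Nat.card_eq_one_iff_unique.1 hone
    exact congrArg Subtype.val (hsub.elim
      ⟨_, ⟨⟨α, Subgroup.mem_zpowers α⟩, rfl⟩⟩ ⟨A, MulAction.mem_orbit_self A⟩)
  have hmem : ∀ y ∈ A, α y ∈ A := fun y hy => hmap.le ⟨y, hy, rfl⟩
  -- `α` fixes `a`
  have hfa : α a = a := by
    obtain ⟨i, hi⟩ := (isOfFinOrder_of_finite a).mem_powers_iff_mem_zpowers.2
      (hmem a (Subgroup.mem_zpowers a))
    have hi' : α a = a ^ i := hi.symm
    have hpw : ∀ n : ℕ, (α ^ n) a = a ^ (i ^ n) := by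
      intro n
      induction n with
      | zero => simp
      | succ n ih => rw [pow_succ', MulAut.mul_apply, ih, map_pow, hi', ← pow_mul, pow_succ']
    obtain ⟨m, hm⟩ := IsPGroup.iff_orderOf.1 hR a
    rcases m with _ | m
    · have h1 : a = 1 := orderOf_eq_one_iff.1 (by simpa using hm)
      rw [h1, map_one]
    have hodd : Odd i := by
      rw [← Nat.not_even_iff_odd]
      rintro ⟨l, rfl⟩
      have h1 : orderOf (α a) = orderOf a := MulEquiv.orderOf_eq α a
      rw [hi'] at h1
      have h2 : (a ^ (l + l)) ^ (2 ^ m) = 1 := by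
        rw [← pow_mul, show (l + l) * 2 ^ m = 2 ^ (m + 1) * l by ring, pow_mul, ← hm,
          pow_orderOf_eq_one, one_pow]
      have := orderOf_dvd_of_pow_eq_one h2
      rw [h1, hm] at this
      have := Nat.le_of_dvd (by positivity) this
      rw [pow_succ] at this
      have : 0 < 2 ^ m := by positivity
      omega
    have hφ : (α ^ (2 ^ m)) a = a := by
      rw [hpw]
      have h1 := Nat.ModEq.pow_totient (x := i) (n := 2 ^ (m + 1))
        (Nat.Coprime.pow_right _ (Nat.coprime_two_right.2 hodd))
      rw [Nat.totient_prime_pow Nat.prime_two (Nat.succ_pos m)] at h1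
      simp only [Nat.succ_sub_one, show (2 : ℕ) - 1 = 1 from rfl, mul_one] at h1
      conv_rhs => rw [← pow_one a]
      rw [pow_eq_pow_iff_modEq, hm]
      exact h1
    have hS : α ∈ MulAction.stabilizer (MulAut R) a := by
      have hco : Nat.Coprime (2 ^ m) (5 ^ k) := Nat.Coprime.pow _ _ (by norm_num)
      have hz := Int.gcd_eq_gcd_ab (2 ^ m : ℕ) (5 ^ k : ℕ)
      rw [Int.gcd_natCast_natCast, hco] at hz
      rw [← zpow_one α, ← Nat.cast_one, hz, zpow_add, zpow_mul, zpow_mul, zpow_natCast, zpow_natCast,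
        hα, one_zpow, mul_one]
      exact Subgroup.zpow_mem _ hφ _
    exact hS
  -- `α` fixes everything
  have hfA : ∀ y ∈ A, α y = y := by
    rintro y ⟨z, rfl⟩
    show α (a ^ z) = a ^ z
    rw [map_zpow, hfa]
  refine MulEquiv.ext fun x => ?_
  rw [MulAut.one_apply]
  by_cases hx : x ∈ A
  · exact hfA x hx
  have htop : A ≠ ⊤ := fun e => hx (e ▸ Subgroup.mem_top x)
  have h2 := index_eq_two_of_le a ha htop
  have hαx : α x ∉ A := fun h => hx (by
    obtain ⟨y, hy, hye⟩ := hmap.ge h
    exact α.injective hye ▸ hy)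
  set c := x⁻¹ * α x with hc
  have hcA : c ∈ A := (Subgroup.mul_mem_iff_of_index_two h2).2
    (iff_of_false (fun h => hx ((inv_mem_iff).1 h)) hαx)
  have hstep : ∀ n : ℕ, (α ^ n) x = x * c ^ n := by
    intro n
    induction n with
    | zero => simp
    | succ n ih =>
      rw [pow_succ', MulAut.mul_apply, ih, map_mul, map_pow, hfA c hcA, hc, pow_succ', ← mul_assoc,
        mul_inv_cancel_left]
  have h5 : c ^ (5 ^ k) = 1 := by
    have := hstep (5 ^ k)
    rw [hα, MulAut.one_apply] at this
    exact mul_eq_left.1 this.symm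
  have hc1 : c = 1 := by
    obtain ⟨j, hj⟩ := IsPGroup.iff_orderOf.1 hR c
    exact orderOf_eq_one_iff.1 (Nat.eq_one_of_dvd_coprimes (Nat.Coprime.pow j k (by norm_num : Nat.Coprime 2 5))
      (hj ▸ dvd_rfl) (orderOf_dvd_of_pow_eq_one h5))
  exact (inv_mul_eq_one.1 (hc ▸ hc1)).symm

end Cfsg.Agent.CentralMeet
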