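/-
The simple group `K` in `C(t)` modulo the core of `C(t) ⊓ N(S)` when `|Ω₁Z(S)| = 8` (owner: helper56).

* `Config.abelian_case` : an abelian kernel gives a group of order 60 equal to `K`
* `Config.unitary_case` : otherwise an element of 5-power order centralises `Ω₁Z(P)` and fixes only
  its image in `P` modulo the core
* `Config.squares` : in both cases.
-/
import Cfsg.Agent.Lib.CentralMeet.Local
import Cfsg.Agent.Lib.CentralMeet.Ambient
import Cfsg.Agent.Lib.SuzukiRankOne.Unitary.TwoGroup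
import Cfsg.Agent.Lib.PGroup.Basic
import Cfsg.Agent.Lib.NormEven.Basic

set_option autoImplicit false
set_option linter.style.haveILetI false
set_option linter.unusedSectionVars false

namespace Cfsg.Agent.CentralMeet

open Cfsg Involution MulAction Cfsg.Agent.SuzukiRankOne

universe u

/-- An element of odd order normalising a four group and fixing an involution of it centralises it. -/
theorem fix_four {X : Type u} [Group X] [Finite X] {V : Subgroup X} (h4 : Nat.card V = 4)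
    (hsq : ∀ v ∈ V, v * v = 1) {x : X} (hx : Odd (orderOf x)) (hn : ∀ v ∈ V, x * v * x⁻¹ ∈ V)
    {a : X} (ha : a ∈ V) (ha1 : a ≠ 1) (hxa : Commute x a) : ∀ v ∈ V, Commute x v := by
  classical
  intro v hv
  by_cases hv1 : v = 1
  · rw [hv1]; exact Commute.one_right x
  by_cases hva : v = a
  · rw [hva]; exact hxa
  have hav : a * v ∈ V := mul_mem ha hv
  let g : Fin 4 → V := ![1, ⟨a, ha⟩, ⟨v, hv⟩, ⟨a * v, hav⟩]
  have hav1 : a * v ≠ 1 := fun e => hva (mul_left_cancel (e.trans (hsq a ha).symm))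
  have hava : a * v ≠ a := fun e => hv1 (mul_eq_left.1 e)
  have havv : a * v ≠ v := fun e => ha1 (mul_eq_right.1 e)
  have hg : Function.Bijective g := by
    refine (Nat.bijective_iff_injective_and_card g).2 ⟨?_, by rw [h4]; simp⟩
    intro i k e
    have e' := congrArg (fun y : V => (y : X)) e
    fin_cases i <;> fin_cases k <;> simp [g, ha1, ha1.symm, hv1, Ne.symm hv1, hva, Ne.symm hva, hav1,
      hav1.symm, hava, hava.symm, havv, havv.symm] at e' ⊢
  obtain ⟨i, hi⟩ := hg.2 ⟨_, hn v hv⟩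
  have e' := congrArg (fun y : V => (y : X)) hi
  refine mul_inv_eq_iff_eq_mul.1 ?_
  fin_cases i <;> simp [g] at e'
  · exact absurd (conj_eq_one_iff.1 e'.symm) hv1
  · refine absurd (?_ : v = a) hva
    have e2 : x * a * x⁻¹ = a := by rw [hxa.eq, mul_inv_cancel_right]
    exact mul_left_cancel (mul_right_cancel (e'.symm.trans e2.symm))
  · exact e'.symm
  · refine Bender.eq_of_sq_fix hx ?_
    rw [← e']
    calc x * (a * v) * x⁻¹ = (x * a * x⁻¹) * (x * v * x⁻¹) := by group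
      _ = v := by rw [hxa.eq, mul_inv_cancel_right, ← e', ← mul_assoc, hsq a ha, one_mul]

variable {C : Type u} [Group C] [Finite C]

namespace Config

variable {P : Sylow 2 C} {H : Subgroup C} {t : C} (c : Config P H t)
include c

local notation "N" => Subgroup.normalCore H
local notation "f" => QuotientGroup.mk' (Subgroup.normalCore H)
local notation "Hb" => Subgroup.map (QuotientGroup.mk' (Subgroup.normalCore H)) H
local notation "Pb" => Subgroup.map (QuotientGroup.mk' (Subgroup.normalCore H)) (P : Subgroup C)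
local notation "Zb" => Subgroup.map (QuotientGroup.mk' (Subgroup.normalCore H)) (omega (P : Subgroup C))

theorem pb_le : Pb ≤ Hb := Subgroup.map_mono c.le

theorem zb_le : Zb ≤ Pb := Subgroup.map_mono (omega_le _)

theorem zb_comm {x y : C ⧸ N} (hx : x ∈ Pb) (hy : y ∈ Zb) : Commute x y := by
  obtain ⟨a, ha, rfl⟩ := hx
  obtain ⟨b, hb, rfl⟩ := hy
  exact (hb.2.2 a ha).map f

theorem zb_sq {y : C ⧸ N} (hy : y ∈ Zb) : y * y = 1 := by
  obtain ⟨b, hb, rfl⟩ := hy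
  rw [← map_mul, hb.2.1, map_one]

theorem pb_normalised {x y : C ⧸ N} (hx : x ∈ Hb) (hy : y ∈ Pb) : x * y * x⁻¹ ∈ Pb := by
  obtain ⟨a, ha, rfl⟩ := hx
  obtain ⟨b, hb, rfl⟩ := hy
  exact ⟨a * b * a⁻¹, (Subgroup.mem_normalizer_iff.1 (c.le_normalizer ha) b).1 hb, by simp⟩

theorem zb_normalised {x y : C ⧸ N} (hx : x ∈ Hb) (hy : y ∈ Zb) : x * y * x⁻¹ ∈ Zb := by
  obtain ⟨a, ha, rfl⟩ := hx
  obtain ⟨b, hb, rfl⟩ := hy
  exact ⟨a * b * a⁻¹, conj_mem_omega (c.le_normalizer ha) hb, by simp⟩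

theorem pb_maximal {Y : Subgroup (C ⧸ N)} (hY : IsPGroup 2 Y) (hle : Y ≤ Hb) : Y ≤ Pb := by
  intro x hx
  obtain ⟨k, hk⟩ := IsPGroup.iff_orderOf.1 hY ⟨x, hx⟩
  rw [← Subgroup.orderOf_coe] at hk
  exact mem_sylow_of_two_elt (P.mapSurjective (QuotientGroup.mk'_surjective N))
    (Subgroup.mem_normalizer_iff.2 fun y => ⟨c.pb_normalised (hle hx), fun h => by
      have h' := c.pb_normalised (inv_mem (hle hx)) h
      simpa [mul_assoc] using h'⟩) hk

theorem zb_iff {z : C} (hA : Aschbacher.CoreFreeCriterion.{u}) (hz : Other P t z) (x : C ⧸ N) :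
    (x * x = 1 ∧ x ∈ Hb ∧ x ∈ quotClosure H z) ↔ x ∈ Zb := by
  constructor
  · rintro ⟨h1, h2, h3⟩
    rcases eq_or_ne x 1 with rfl | hne
    · exact one_mem _
    · obtain ⟨w, hw, rfl⟩ := (c.mem_iff hA hz x).1 ⟨orderOf_of_sq h1 hne, h2, h3⟩
      exact ⟨w, hw.1, rfl⟩
  · intro hx
    refine ⟨c.zb_sq hx, c.pb_le (c.zb_le hx), ?_⟩
    obtain ⟨w, hw, rfl⟩ := hx
    rcases eq_or_ne w 1 with rfl | h1
    · rw [map_one]; exact one_mem _
    rcases eq_or_ne w t with rfl | h2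
    · rw [show f w = 1 from (QuotientGroup.eq_one_iff w).2 c.t_mem_core]; exact one_mem _
    · exact c.map_mem hA ⟨hw, h1, h2⟩ hz

theorem z_mem_zb {z : C} (hz : Other P t z) : f z ∈ Zb := ⟨z, hz.1, rfl⟩

theorem card_zb (h8 : Nat.card (omega (P : Subgroup C)) = 8) : Nat.card Zb = 4 := by
  haveI : Fact (Nat.Prime 2) := ⟨Nat.prime_two⟩
  set φ := (f).comp (omega (P : Subgroup C)).subtype
  have hker : Nat.card φ.ker = 2 := by
    have htm : t ∈ omega (P : Subgroup C) :=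
      ⟨c.t_mem, mul_self c.orderOf_t, fun s _ => (c.t_central s)⟩
    rw [show φ.ker = Subgroup.zpowers (⟨t, htm⟩ : omega (P : Subgroup C)) from ?_, Nat.card_zpowers,
      ← Subgroup.orderOf_coe, c.orderOf_t]
    refine le_antisymm (fun x hx => ?_) (Subgroup.zpowers_le.2 ((QuotientGroup.eq_one_iff t).2 c.t_mem_core))
    rcases eq_or_ne (x : C) 1 with h | h
    · rw [show x = 1 from Subtype.ext h]; exact one_mem _
    · rw [show x = ⟨t, htm⟩ from Subtype.ext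
        (c.eq_t (orderOf_of_mem_omega x.2 h) ((QuotientGroup.eq_one_iff (x : C)).1 hx))]
      exact Subgroup.mem_zpowers _
  have hrange : φ.range = Zb := by rw [MonoidHom.range_comp, Subgroup.range_subtype]
  have h := Subgroup.card_mul_index φ.ker
  rw [Subgroup.index_ker, hrange, hker, h8] at h
  omega

variable {z : C} {t' : ↥(quotClosure H z)} {Q : Subgroup ↥(quotClosure H z)}
  (hA : Aschbacher.CoreFreeCriterion.{u}) (hz : Other P t z)
  (h : Cfsg.IsRankOneSetup ↥(quotClosure H z)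
    (↥(quotClosure H z) ⧸
      (Subgroup.map (QuotientGroup.mk' (Subgroup.normalCore H)) H).subgroupOf (quotClosure H z))
    ((1 : ↥(quotClosure H z)) : ↥(quotClosure H z) ⧸
      (Subgroup.map (QuotientGroup.mk' (Subgroup.normalCore H)) H).subgroupOf (quotClosure H z)) t' Q)
include hA hz h

local notation "K" => quotClosure H z

theorem qmap_eq : Q.map (K).subtype = Pb ⊓ K := by
  haveI : Fact (Nat.Prime 2) := ⟨Nat.prime_two⟩
  haveI := c.faithful hA hz
  obtain ⟨hQ2, ⟨S, hS⟩, -⟩ := Bender.sylow_normal h (c.twoInvolutions hA hz)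
  refine le_antisymm (le_inf (c.pb_maximal (hQ2.map _) ?_) (Subgroup.map_subtype_le Q)) ?_
  · rintro _ ⟨u, hu, rfl⟩
    exact kernel_le h hu
  rintro x ⟨hxP, hxK⟩
  refine ⟨⟨x, hxK⟩, ?_, rfl⟩
  obtain ⟨k, hk⟩ : ∃ k, orderOf x = 2 ^ k := by
    obtain ⟨k, hk⟩ := IsPGroup.iff_orderOf.1 (P.isPGroup'.map f) ⟨x, hxP⟩
    exact ⟨k, by rwa [← Subgroup.orderOf_coe] at hk⟩
  show (⟨x, hxK⟩ : ↥K) ∈ Q
  rw [← hS]
  refine mem_sylow_of_two_elt S ?_ (k := k) (by rw [← Subgroup.orderOf_coe]; exact hk)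
  rw [hS]
  have key : ∀ y : ↥K, (y : C ⧸ N) ∈ Hb → ∀ u ∈ Q, y * u * y⁻¹ ∈ Q := fun y hy u hu =>
    h.conj_mem y ((c.mem_stab_iff y).2 hy) u hu
  refine Subgroup.mem_normalizer_iff.2 fun y => ⟨key ⟨x, hxK⟩ (c.pb_le hxP) y, fun hy => ?_⟩
  have h' := key (⟨x, hxK⟩ : ↥K)⁻¹ (inv_mem (c.pb_le hxP)) _ hy
  simpa [mul_assoc] using h'

theorem z_mem_q : f z ∈ Q.map (K).subtype := by
  rw [c.qmap_eq hA hz h]
  exact ⟨c.zb_le (c.z_mem_zb hz), c.z_mem_closure z⟩

theorem zb_le_q : Zb ≤ Q.map (K).subtype := by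
  rw [c.qmap_eq hA hz h]
  exact le_inf c.zb_le fun x hx => ((c.zb_iff hA hz x).2 hx).2.2

theorem sup_top : K ⊔ Hb = ⊤ := by
  haveI : Fact (Nat.Prime 2) := ⟨Nat.prime_two⟩
  haveI := c.faithful hA hz
  obtain ⟨-, ⟨S, hS⟩, -⟩ := Bender.sylow_normal h (c.twoInvolutions hA hz)
  have hsup := Sylow.normalizer_sup_eq_top S
  rw [hS] at hsup
  refine eq_top_iff.2 (hsup.ge.trans (sup_le (fun g hg => Subgroup.mem_sup_right ?_) le_sup_left))
  obtain ⟨g', rfl⟩ := QuotientGroup.mk'_surjective N g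
  refine (c.conj_iff hz g').1 ?_
  obtain ⟨u, hu, he⟩ := (Subgroup.mem_normalizer_iff.1 hg _).1 (c.z_mem_q hA hz h)
  exact he ▸ kernel_le h hu

theorem eq_one {y : C ⧸ N} (hy : y ∈ Hb)
    (hb : y • ((t' : C ⧸ N) : (C ⧸ N) ⧸ Hb) = ((t' : C ⧸ N) : (C ⧸ N) ⧸ Hb))
    (hc : ∀ u ∈ Q.map (K).subtype, Commute y u) : y = 1 :=
  eq_one_of_fix_commute h (c.sup_top hA hz h) c.normalCore_map hy hb fun u hu => hc _ ⟨u, hu, rfl⟩

theorem exists_fix {s : C ⧸ N} (hs : s ∈ Hb) :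
    ∃ u ∈ Q.map (K).subtype, u⁻¹ * s ∈ Hb ∧
      (u⁻¹ * s) • ((t' : C ⧸ N) : (C ⧸ N) ⧸ Hb) = ((t' : C ⧸ N) : (C ⧸ N) ⧸ Hb) := by
  obtain ⟨u, hu, he⟩ := exists_mul_fix h (c.sup_top hA hz h) hs
  exact ⟨u, ⟨u, hu, rfl⟩, mul_mem (inv_mem (kernel_le h hu)) hs, he⟩

variable (h8 : Nat.card (omega (P : Subgroup C)) = 8)
include h8

theorem param_eq : param ↥K ((1 : ↥K) : ↥K ⧸ (Hb).subgroupOf K) = 4 := by
  have e : Nat.card (Cfsg.involutionsIn
      (stabilizer ↥K ((1 : ↥K) : ↥K ⧸ (Hb).subgroupOf K) : Set ↥K)) + 1 = Nat.card Zb := by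
    classical
    rw [← Finite.card_option]
    refine Nat.card_congr (Equiv.trans (Equiv.optionCongr ?_) (Equiv.optionSubtypeNe (1 : ↥Zb)))
    exact
    { toFun := fun x => ⟨⟨((x : ↥K) : C ⧸ N), (c.zb_iff hA hz _).1
          ⟨congrArg Subtype.val x.2.2.2, (c.mem_stab_iff _).1 x.2.1, (x : ↥K).2⟩⟩,
          fun e => x.2.2.1 (Subtype.ext (congrArg (fun y : ↥Zb => (y : C ⧸ N)) e))⟩
      invFun := fun y => ⟨⟨(y.1 : C ⧸ N), ((c.zb_iff hA hz _).2 y.1.2).2.2⟩,
          (c.mem_stab_iff _).2 ((c.zb_iff hA hz _).2 y.1.2).2.1,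
          fun e => y.2 (Subtype.ext (congrArg (fun x : ↥K => (x : C ⧸ N)) e)),
          Subtype.ext ((c.zb_iff hA hz _).2 y.1.2).1⟩
      left_inv := fun x => rfl
      right_inv := fun y => rfl }
  rw [c.card_zb h8] at e
  exact e

/-- The order of `D` is three times that of the centraliser of the involutions in it. -/
theorem card_dd (D : Subgroup (C ⧸ N))
    (hD : ∀ x, x ∈ D ↔ x ∈ K ∧ x ∈ Hb ∧
      x • ((t' : C ⧸ N) : (C ⧸ N) ⧸ Hb) = ((t' : C ⧸ N) : (C ⧸ N) ⧸ Hb)) :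
    Nat.card D = Nat.card ↥(stabilizer ↥K ((1 : ↥K) : ↥K ⧸ (Hb).subgroupOf K) ⊓
        stabilizer ↥K (t' • ((1 : ↥K) : ↥K ⧸ (Hb).subgroupOf K))) ∧
      Nat.card D = 3 * Nat.card ↥(D ⊓ Subgroup.centralizer (Zb : Set (C ⧸ N))) := by
  classical
  haveI := c.faithful hA hz
  have h1 : Nat.card D = Nat.card ↥(stabilizer ↥K ((1 : ↥K) : ↥K ⧸ (Hb).subgroupOf K) ⊓
        stabilizer ↥K (t' • ((1 : ↥K) : ↥K ⧸ (Hb).subgroupOf K))) := by
    refine Nat.card_congr
      { toFun := fun x => ⟨⟨x, ((hD _).1 x.2).1⟩, (mem_dd_iff h _).2 ((hD _).1 x.2).2⟩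
        invFun := fun k => ⟨((k : ↥K) : C ⧸ N), (hD _).2 ⟨(k : ↥K).2, (mem_dd_iff h _).1 k.2⟩⟩
        left_inv := fun x => rfl
        right_inv := fun k => rfl }
  refine ⟨h1, ?_⟩
  have hoddD : Odd (Nat.card D) := h1 ▸ h.odd_card
  letI : MulAction D (C ⧸ N) := MulAction.compHom (C ⧸ N) ((MulAut.conj).comp D.subtype)
  have hsmul : ∀ (d : D) (x : C ⧸ N), d • x = (d : C ⧸ N) * x * (d : C ⧸ N)⁻¹ := fun d x => rfl
  have horb : MulAction.orbit D (f z) = (Zb : Set (C ⧸ N)) \ {1} := by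
    ext x
    constructor
    · rintro ⟨d, rfl⟩
      show d • f z ∈ _
      rw [hsmul]
      exact ⟨c.zb_normalised ((hD _).1 d.2).2.1 (c.z_mem_zb hz),
        fun e => c.map_ne_one hz.orderOf hz.2.2 (conj_eq_one_iff.1 e)⟩
    · rintro ⟨hx, hx1⟩
      obtain ⟨hx2, hxH, hxK⟩ := (c.zb_iff hA hz x).2 hx
      have hzb := c.orderOf_map hz.orderOf hz.2.2
      obtain ⟨k, hk, hkx⟩ := RankOne.Setup.exists_conj_kk h
        (s := ⟨f z, c.z_mem_closure z⟩) (s' := ⟨x, hxK⟩)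
        ⟨(c.mem_stab_iff _).2 (c.pb_le (c.zb_le (c.z_mem_zb hz))),
          fun e => ne_one hzb (congrArg Subtype.val e), Subtype.ext (mul_self hzb)⟩
        ⟨(c.mem_stab_iff _).2 hxH, fun e => hx1 (congrArg Subtype.val e), Subtype.ext hx2⟩
      refine ⟨⟨((k⁻¹ : ↥K) : C ⧸ N), (hD _).2 ⟨(k⁻¹ : ↥K).2, (mem_dd_iff h _).1 (inv_mem hk.1)⟩⟩, ?_⟩
      show _ • f z = x
      rw [hsmul]
      simpa using congrArg (fun y : ↥K => (y : C ⧸ N)) hkx
  have hstab : (stabilizer D (f z)).map D.subtype = D ⊓ Subgroup.centralizer (Zb : Set (C ⧸ N)) := by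
    ext x
    constructor
    · rintro ⟨d, hd, rfl⟩
      refine ⟨d.2, ?_⟩
      have hd' : d • f z = f z := hd
      rw [hsmul, mul_inv_eq_iff_eq_mul] at hd'
      refine Subgroup.mem_centralizer_iff.2 fun v hv => ?_
      exact (fix_four (c.card_zb h8) (fun v hv => c.zb_sq hv)
        (by rw [Subgroup.orderOf_coe]; exact hoddD.of_dvd_nat (orderOf_dvd_natCard d))
        (fun v hv => c.zb_normalised ((hD _).1 d.2).2.1 hv) (c.z_mem_zb hz)
        (c.map_ne_one hz.orderOf hz.2.2) hd' v hv).eq.symm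
    · rintro ⟨hxD, hxc⟩
      refine ⟨⟨x, hxD⟩, ?_, rfl⟩
      show (⟨x, hxD⟩ : D) • f z = f z
      rw [hsmul]
      exact mul_inv_eq_iff_eq_mul.2 (Subgroup.mem_centralizer_iff.1 hxc _ (c.z_mem_zb hz)).symm
  have hidx := MulAction.index_stabilizer D (f z)
  rw [horb, Set.ncard_diff_singleton_of_mem (show (1 : C ⧸ N) ∈ (Zb : Set (C ⧸ N)) from one_mem _),
    ← Nat.card_coe_set_eq, SetLike.coe_sort_coe, c.card_zb h8] at hidx
  rw [← hstab, Subgroup.card_subtype, ← Subgroup.card_mul_index (stabilizer D (f z)), hidx, mul_comm]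

/-- The abelian case: `C` modulo the core is `K`, of order 60. -/
theorem abelian_case (hab : IsMulCommutative Q) :
    Nat.card (C ⧸ N) = 60 ∧ IsSimpleGroup (C ⧸ N) ∧ Pb = Zb ∧
      Subgroup.centralizer (Pb : Set (C ⧸ N)) ≤ Zb := by
  classical
  haveI : Fact (Nat.Prime 2) := ⟨Nat.prime_two⟩
  haveI := c.faithful hA hz
  have hel := (kernelShape _ _ _ _ _ h (c.twoInvolutions hA hz)).2 hab
  have hq : Q.map (K).subtype = Zb := by
    refine le_antisymm ?_ (c.zb_le_q hA hz h)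
    rintro _ ⟨u, hu, rfl⟩
    exact (c.zb_iff hA hz _).1 ⟨congrArg Subtype.val (hel u hu), kernel_le h hu, u.2⟩
  have habsorb : ∀ s ∈ Hb, (∀ v ∈ Zb, Commute s v) → s ∈ Zb := by
    intro s hs hsc
    obtain ⟨u, hu, hus, hfix⟩ := c.exists_fix hA hz h hs
    rw [hq] at hu
    have h1 := c.eq_one hA hz h hus hfix fun v hv => by
      rw [hq] at hv
      exact ((c.zb_comm (c.zb_le hu) hv).inv_left).mul_left (hsc v hv)
    rw [inv_mul_eq_one] at h1
    exact h1 ▸ hu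
  have hPZ : Pb = Zb :=
    le_antisymm (fun s hs => habsorb s (c.pb_le hs) fun v hv => c.zb_comm hs hv) c.zb_le
  have hcent : Subgroup.centralizer (Pb : Set (C ⧸ N)) ≤ Zb := fun x hx => habsorb x
    (c.other_centralizer_le hz (Involution.mem_centralizer_iff_commute.2
      (Subgroup.mem_centralizer_iff.1 hx _ (c.zb_le (c.z_mem_zb hz))).symm))
    fun v hv => (Subgroup.mem_centralizer_iff.1 hx v (c.zb_le hv)).symm
  -- the two-point stabiliser
  let b : (C ⧸ N) ⧸ Hb := ((t' : C ⧸ N) : (C ⧸ N) ⧸ Hb)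
  let D : Subgroup (C ⧸ N) := K ⊓ Hb ⊓ stabilizer (C ⧸ N) b
  have hD : ∀ x, x ∈ D ↔ x ∈ K ∧ x ∈ Hb ∧ x • b = b := fun x => and_assoc
  obtain ⟨hDc, hD3⟩ := c.card_dd hA hz h h8 D hD
  have hbot : D ⊓ Subgroup.centralizer (Zb : Set (C ⧸ N)) = ⊥ := by
    refine (Subgroup.eq_bot_iff_forall _).2 fun x hx => c.eq_one hA hz h ((hD x).1 hx.1).2.1
      ((hD x).1 hx.1).2.2 fun v hv => ?_
    rw [hq] at hv
    exact (Subgroup.mem_centralizer_iff.1 hx.2 v hv).symm
  rw [hbot, Subgroup.card_bot, mul_one] at hD3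
  -- `H` lies in `K`
  have hHK : Hb ≤ K := by
    intro x hx
    obtain ⟨hx2, hxH, hxK⟩ := (c.zb_iff hA hz _).2 (c.zb_normalised hx (c.z_mem_zb hz))
    have hzb := c.orderOf_map hz.orderOf hz.2.2
    obtain ⟨k, hk, hkx⟩ := RankOne.Setup.exists_conj_kk h
      (s' := ⟨f z, c.z_mem_closure z⟩) (s := ⟨x * f z * x⁻¹, hxK⟩)
      ⟨(c.mem_stab_iff _).2 hxH,
        fun e => ne_one hzb (conj_eq_one_iff.1 (congrArg Subtype.val e)), Subtype.ext hx2⟩
      ⟨(c.mem_stab_iff _).2 (c.pb_le (c.zb_le (c.z_mem_zb hz))),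
        fun e => ne_one hzb (congrArg Subtype.val e), Subtype.ext (mul_self hzb)⟩
    set y := ((k : ↥K) : C ⧸ N)⁻¹ * x with hy
    have hyH : y ∈ Hb := mul_mem (inv_mem ((mem_dd_iff h _).1 hk.1).1) hx
    have hyz : Commute y (f z) := mul_inv_eq_iff_eq_mul.1 (by
      rw [hy]
      have e := congrArg (fun w : ↥K => (w : C ⧸ N)) hkx
      simp only [Subgroup.coe_mul, Subgroup.coe_inv] at e
      conv_rhs => rw [← e]
      group)
    obtain ⟨r, v, ⟨j, hr⟩, hv, hrv, hry, hvy⟩ := NormEven.two_odd_parts y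
    have hrH : r ∈ Hb := (Subgroup.zpowers_le.2 hyH) hry
    have hvH : v ∈ Hb := (Subgroup.zpowers_le.2 hyH) hvy
    have hrP : r ∈ Pb := c.pb_maximal
      (IsPGroup.of_card (n := j) (by rw [Nat.card_zpowers, hr])) (Subgroup.zpowers_le.2 hrH)
      (Subgroup.mem_zpowers r)
    have hvz : Commute v (f z) := by
      obtain ⟨i, rfl⟩ := Subgroup.mem_zpowers_iff.1 hvy
      exact hyz.zpow_left i
    have hvZ : v ∈ Zb := habsorb v hvH (fix_four (c.card_zb h8) (fun w hw => c.zb_sq hw) hv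
      (fun w hw => c.zb_normalised hvH hw) (c.z_mem_zb hz) (c.map_ne_one hz.orderOf hz.2.2) hvz)
    have hyK : y ∈ K := by
      rw [hrv]
      exact mul_mem ((c.zb_iff hA hz _).2 (hPZ ▸ hrP)).2.2 ((c.zb_iff hA hz _).2 hvZ).2.2
    have := (quotClosure H z).mul_mem (k : ↥K).2 hyK
    rwa [hy, mul_inv_cancel_left] at this
  have hKtop : K = ⊤ := by rw [← c.sup_top hA hz h, sup_eq_left.2 hHK]
  refine ⟨?_, ?_, hPZ, hcent⟩
  · rw [← Nat.card_congr (MulEquiv.toEquiv ((MulEquiv.subgroupCongr hKtop).trans Subgroup.topEquiv)),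
      RankOne.Setup.card_group h, ← hDc, hD3]
    have hQ : Nat.card Q = 4 := by
      rw [← c.card_zb h8, ← hq, Subgroup.card_subtype]
    rw [hQ]
  · haveI := (c.simple hA hz).1
    let e := (MulEquiv.subgroupCongr hKtop).trans Subgroup.topEquiv
    haveI : Nontrivial (C ⧸ N) := e.symm.toEquiv.nontrivial
    exact IsSimpleGroup.isSimpleGroup_of_surjective e.toMonoidHom e.surjective

end Config

end Cfsg.Agent.CentralMeet
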