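/-
The non-abelian case in `C(t)` modulo the core: the kernel has order 64 and an element of order five
(owner: helper56).

* `Config.squares` : elements of `P` with square in the core are central involutions modulo it
* `Config.unitary_case` : an element of 5-power order centralising `Ω₁Z(P)` and fixing only its image.
-/
import Cfsg.Agent.Lib.CentralMeet.Top

set_option autoImplicit false
set_option linter.style.haveILetI false
set_option linter.unusedSectionVars false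

namespace Cfsg.Agent.CentralMeet

open Cfsg Involution MulAction Cfsg.Agent.SuzukiRankOne

universe u

theorem two_pow_inj {a b x y : ℕ} (hx : Odd x) (hy : Odd y) (h : 2 ^ a * x = 2 ^ b * y) : a = b := by
  have key : ∀ {a b x y : ℕ}, Odd y → 2 ^ a * x = 2 ^ b * y → a ≤ b := by
    intro a b x y hy h
    by_contra hlt
    obtain ⟨d, rfl⟩ := Nat.exists_eq_add_of_lt (not_le.1 hlt)
    rw [pow_succ, pow_add, mul_assoc, mul_assoc] at h
    have := Nat.eq_of_mul_eq_mul_left (by positivity) h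
    exact Nat.not_even_iff_odd.2 hy ⟨2 ^ d * x, by rw [← this]; ring⟩
  exact le_antisymm (key hy h) (key hx h.symm)

/-- An element commuting with `g` modulo an element of 5-power order: `g` with a given image. -/
theorem exists_five_lift {A B : Type u} [Group A] [Finite A] [Group B] (φ : A →* B) {g : A}
    (h5 : φ g ^ 5 = 1) :
    ∃ e : ℕ, φ (g ^ e) = φ g ∧ ∃ a, (g ^ e) ^ (5 ^ a) = 1 := by
  haveI : Fact (Nat.Prime 5) := ⟨by norm_num⟩
  obtain ⟨a, m, hm, hn⟩ := Nat.exists_eq_pow_mul_and_not_dvd (orderOf_pos g).ne' 5 (by norm_num)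
  have hco : Nat.Coprime m 5 := ((Nat.Prime.coprime_iff_not_dvd (by norm_num)).2 hm).symm
  obtain ⟨e, he0, he1⟩ := Nat.chineseRemainder hco 0 1
  obtain ⟨l, hl⟩ := (Nat.modEq_zero_iff_dvd).1 he0
  refine ⟨e, ?_, a, ?_⟩
  · rw [map_pow]
    calc φ g ^ e = φ g ^ (e % 5) := pow_eq_pow_mod e h5
      _ = φ g := by rw [show e % 5 = 1 from he1, pow_one]
  · rw [← pow_mul, hl, show m * l * 5 ^ a = (5 ^ a * m) * l by ring, ← hn, pow_mul, pow_orderOf_eq_one,
      one_pow]

theorem four_of_mod : ∀ k, k ≤ 6 → 2 ^ k ≠ 64 → 4 ∣ 2 ^ k → 64 % 5 = 2 ^ k % 5 → 2 ^ k = 4 := by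
  decide

theorem four_or_sixtyfour : ∀ k, k ≤ 6 → 4 ≤ 2 ^ k → 2 ^ k % 5 = 4 % 5 → 2 ^ k = 4 ∨ 2 ^ k = 64 := by
  decide

variable {C : Type u} [Group C] [Finite C]

/-- The subgroup of elements of `R` whose commutator with `s` lies in the central subgroup `V`. -/
def commSub {X : Type u} [Group X] (R V : Subgroup X) (s : X) (hV : ∀ r ∈ R, ∀ v ∈ V, Commute r v) :
    Subgroup X where
  carrier := {r | r ∈ R ∧ s * r * s⁻¹ * r⁻¹ ∈ V}
  one_mem' := ⟨one_mem R, by simp [one_mem]⟩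
  mul_mem' := by
    rintro x y ⟨hx, hx'⟩ ⟨hy, hy'⟩
    refine ⟨mul_mem hx hy, ?_⟩
    have e : s * (x * y) * s⁻¹ * (x * y)⁻¹ =
        (s * x * s⁻¹ * x⁻¹) * (x * (s * y * s⁻¹ * y⁻¹) * x⁻¹) := by group
    rw [e, (hV x hx _ hy').eq, mul_inv_cancel_right]
    exact mul_mem hx' hy'
  inv_mem' := by
    rintro x ⟨hx, hx'⟩
    refine ⟨inv_mem hx, ?_⟩
    have e : s * x⁻¹ * s⁻¹ * x⁻¹⁻¹ = x⁻¹ * (s * x * s⁻¹ * x⁻¹)⁻¹ * x := by group
    rw [e, (hV x⁻¹ (inv_mem hx) _ (inv_mem hx')).eq, inv_mul_cancel_right]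
    exact inv_mem hx'

/-- The hom `r ↦ [s, r]` on it. -/
def commHom {X : Type u} [Group X] (R V : Subgroup X) (s : X) (hV : ∀ r ∈ R, ∀ v ∈ V, Commute r v) :
    commSub R V s hV →* V where
  toFun r := ⟨s * (r : X) * s⁻¹ * (r : X)⁻¹, r.2.2⟩
  map_one' := Subtype.ext (by simp)
  map_mul' := fun x y => Subtype.ext (by
    have hc := hV x x.2.1 _ y.2.2
    show s * ((x : X) * y) * s⁻¹ * ((x : X) * y)⁻¹ =
      (s * x * s⁻¹ * (x : X)⁻¹) * (s * y * s⁻¹ * (y : X)⁻¹)
    calc s * ((x : X) * y) * s⁻¹ * ((x : X) * y)⁻¹ =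
        (s * x * s⁻¹ * (x : X)⁻¹) * ((x : X) * (s * y * s⁻¹ * (y : X)⁻¹) * (x : X)⁻¹) := by group
      _ = _ := by rw [hc.eq, mul_inv_cancel_right])

/-- An element of order five fixing exactly a four group of a group of order 64: invariant subgroups
above the four group are the two obvious ones. -/
theorem five_invariant {X : Type u} [Group X] [Finite X] {U V : Subgroup X} {c : X} (hc5 : c ^ 5 = 1)
    (hinv : ∀ u ∈ U, c * u * c⁻¹ ∈ U) (hU : Nat.card U ∣ 64) (hVU : V ≤ U) (hV : Nat.card V = 4)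
    (hfix : ∀ u ∈ U, Commute c u ↔ u ∈ V) : Nat.card U = 4 ∨ Nat.card U = 64 := by
  classical
  haveI : Fact (Nat.Prime 5) := ⟨by norm_num⟩
  set A := Subgroup.zpowers c
  have hA : IsPGroup 5 A := fun x => ⟨1, Subtype.ext (by
    obtain ⟨i, hi⟩ := Subgroup.mem_zpowers_iff.1 x.2
    rw [pow_one, Subgroup.coe_pow, Subgroup.coe_one, ← hi, ← zpow_natCast, ← zpow_mul, mul_comm,
      zpow_mul, zpow_natCast, hc5, one_zpow])⟩
  have hnorm : A ≤ Subgroup.normalizer (U : Set X) := Subgroup.zpowers_le.2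
    (Subgroup.mem_normalizer_fintype (S := (U : Set X)) hinv)
  letI : MulAction A U :=
    { smul := fun a u => ⟨(a : X) * u * (a : X)⁻¹, (Subgroup.mem_normalizer_iff.1 (hnorm a.2) _).1 u.2⟩
      one_smul := fun u => Subtype.ext (by
        show ((1 : A) : X) * u * ((1 : A) : X)⁻¹ = u
        simp)
      mul_smul := fun a b u => Subtype.ext (by
        show ((a * b : A) : X) * u * ((a * b : A) : X)⁻¹ = a * (b * u * (b : X)⁻¹) * (a : X)⁻¹
        rw [Subgroup.coe_mul]; group) }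
  have h := hA.card_modEq_card_fixedPoints U
  have hfp : Nat.card (MulAction.fixedPoints A U) = 4 := by
    rw [← hV]
    refine Nat.card_congr
      { toFun := fun u => ⟨((u : U) : X), (hfix _ (u : U).2).1 (by
          have := congrArg Subtype.val (u.2 ⟨c, Subgroup.mem_zpowers c⟩)
          exact mul_inv_eq_iff_eq_mul.1 this)⟩
        invFun := fun v => ⟨⟨v, hVU v.2⟩, fun a => Subtype.ext (by
          show (a : X) * v * (a : X)⁻¹ = v
          obtain ⟨i, hi⟩ := Subgroup.mem_zpowers_iff.1 a.2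
          rw [← hi, (((hfix _ (hVU v.2)).2 v.2).zpow_left i).eq, mul_inv_cancel_right])⟩
        left_inv := fun u => rfl
        right_inv := fun v => rfl }
  rw [hfp] at h
  have h4 : 4 ≤ Nat.card U := hV ▸ Nat.card_le_card_of_injective _ (Subgroup.inclusion_injective hVU)
  obtain ⟨k, hk6, hk⟩ := (Nat.dvd_prime_pow Nat.prime_two).1 (show Nat.card U ∣ 2 ^ 6 from hU)
  rw [hk] at h h4 ⊢
  exact four_or_sixtyfour k hk6 h4 h

namespace Config

variable {P : Sylow 2 C} {H : Subgroup C} {t : C} (c : Config P H t)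
include c

local notation "N" => Subgroup.normalCore H
local notation "f" => QuotientGroup.mk' (Subgroup.normalCore H)
local notation "Hb" => Subgroup.map (QuotientGroup.mk' (Subgroup.normalCore H)) H
local notation "Pb" => Subgroup.map (QuotientGroup.mk' (Subgroup.normalCore H)) (P : Subgroup C)
local notation "Zb" => Subgroup.map (QuotientGroup.mk' (Subgroup.normalCore H)) (omega (P : Subgroup C))

variable {z : C} {t' : ↥(quotClosure H z)} {Q : Subgroup ↥(quotClosure H z)}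
  (hA : Aschbacher.CoreFreeCriterion.{u}) (hz : Other P t z)
  (h : Cfsg.IsRankOneSetup ↥(quotClosure H z)
    (↥(quotClosure H z) ⧸
      (Subgroup.map (QuotientGroup.mk' (Subgroup.normalCore H)) H).subgroupOf (quotClosure H z))
    ((1 : ↥(quotClosure H z)) : ↥(quotClosure H z) ⧸
      (Subgroup.map (QuotientGroup.mk' (Subgroup.normalCore H)) H).subgroupOf (quotClosure H z)) t' Q)
include hA hz h

local notation "K" => quotClosure H z

/-- When `P` maps onto the kernel, square roots of core elements are central involutions modulo it. -/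
theorem squares (hPQ : Pb = Q.map (K).subtype) {x : C} (hx : x ∈ P) (hxx : x * x ∈ N) : f x ∈ Zb := by
  refine (c.zb_iff hA hz _).1 ⟨?_, c.pb_le ⟨x, hx, rfl⟩, ?_⟩
  · rw [← map_mul]; exact (QuotientGroup.eq_one_iff _).2 hxx
  · obtain ⟨u, -, hu⟩ := hPQ.le (show f x ∈ Pb from ⟨x, hx, rfl⟩)
    exact hu ▸ u.2

variable (h8 : Nat.card (omega (P : Subgroup C)) = 8)
include h8

/-- The non-abelian kernel has order 64 and `D` has order 15. -/
theorem card_q (hna : ¬ IsMulCommutative Q) :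
    Nat.card Q = 64 ∧ Nat.card ↥(stabilizer ↥K ((1 : ↥K) : ↥K ⧸ (Hb).subgroupOf K) ⊓
        stabilizer ↥K (t' • ((1 : ↥K) : ↥K ⧸ (Hb).subgroupOf K))) = 15 := by
  classical
  haveI := c.faithful hA hz
  haveI := (c.simple hA hz).1
  have h2 := c.twoInvolutions hA hz
  obtain ⟨hQ2, -⟩ := kernelShape _ _ _ _ _ h h2
  obtain ⟨n, hn, hq, ⟨Co⟩⟩ := exists_coords h h2
  have hcard : Nat.card (GaloisField 2 n) = 4 := by
    rw [GaloisField.card 2 n (by omega), ← hq, c.param_eq hA hz h h8]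
  have hG := RankOne.Setup.card_group h
  have hoddD := h.odd_card
  have htop : ∀ L : Subgroup ↥K, L.Normal → Odd L.index → L = ⊤ := fun L hL hodd =>
    hL.eq_bot_or_eq_top.resolve_left fun e => by
      rw [e, Subgroup.index_bot] at hodd
      exact Nat.not_even_iff_odd.2 hodd (even_iff_two_dvd.2
        ((Involution.orderOf_of_sq h.mul_self h.ne_one) ▸ orderOf_dvd_natCard t'))
  rcases Co.card_cases h h2 hQ2 hna with hQc | hQc <;> rw [hcard] at hQc
  · exfalso
    obtain ⟨L, hL, hodd, F, _, _, m, hm, hF, ⟨e⟩⟩ := Suzuki.suzukiShape _ _ _ _ _ h h2 hQ2 hna (by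
      rw [hQc, c.param_eq hA hz h h8])
    obtain rfl := htop L hL hodd
    have hk : Nat.card ↥K = Nat.card (Cfsg.Sz F m) :=
      Nat.card_congr ((Subgroup.topEquiv.symm.trans e).trans (Suzuki.lieEquiv (F := F) hm hF).symm).toEquiv
    rw [hG, hQc, Suzuki.card_sz hm hF] at hk
    set D := Nat.card ↥(stabilizer ↥K ((1 : ↥K) : ↥K ⧸ (Hb).subgroupOf K) ⊓
        stabilizer ↥K (t' • ((1 : ↥K) : ↥K ⧸ (Hb).subgroupOf K)))
    have hk' : 2 ^ 4 * (D * 17) =
        2 ^ (2 * (2 * m + 1)) * (((2 ^ (2 * m + 1)) ^ 2 + 1) * (2 ^ (2 * m + 1) - 1)) := by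
      have e1 : (2 ^ (2 * m + 1)) ^ 2 = 2 ^ (2 * (2 * m + 1)) := by rw [← pow_mul, mul_comm]
      calc 2 ^ 4 * (D * 17) = 4 ^ 2 * D * (4 ^ 2 + 1) := by ring
        _ = _ := hk
        _ = _ := by rw [e1]; ring
    have := two_pow_inj (hoddD.mul (by decide)) (Odd.mul (Even.add_one (by
      exact (Nat.even_pow.2 ⟨Nat.even_pow.2 ⟨even_two, by omega⟩, by norm_num⟩))) (Nat.Even.sub_odd
        (Nat.one_le_two_pow) (Nat.even_pow.2 ⟨even_two, by omega⟩) odd_one)) hk'
    omega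
  · obtain ⟨L, hL, hodd, F, _, _, m, hm, hF, ⟨e⟩⟩ := SuzukiRankOne.unitary_case h h2 hQ2 hna (by
      rw [hQc, c.param_eq hA hz h h8])
    obtain rfl := htop L hL hodd
    have hk : Nat.card ↥K = Nat.card (Cfsg.PSU 3 F (2 ^ m)) :=
      Nat.card_congr (Subgroup.topEquiv.symm.trans e).toEquiv
    have hP := Unitary.card_PSU (n := 3) hF (by norm_num)
    rw [← hk, hG, hQc, Finset.prod_range_succ, Finset.prod_range_succ, Finset.prod_range_succ,
      Finset.prod_range_zero] at hP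
    obtain ⟨D, hD⟩ : ∃ D, D = Nat.card ↥(stabilizer ↥K ((1 : ↥K) : ↥K ⧸ (Hb).subgroupOf K) ⊓
        stabilizer ↥K (t' • ((1 : ↥K) : ↥K ⧸ (Hb).subgroupOf K))) := ⟨_, rfl⟩
    rw [← hD] at hP hoddD ⊢
    norm_num [show ¬ Even 1 by decide] at hP
    refine ⟨by rw [hQc]; norm_num, ?_⟩
    obtain ⟨q, hq'⟩ : ∃ q, q = 2 ^ m := ⟨_, rfl⟩
    rw [← hq'] at hP
    have hqe : Even q := hq' ▸ Nat.even_pow.2 ⟨even_two, by omega⟩
    have hm2 : 3 * m = 6 := by
      refine (two_pow_inj (x := Nat.gcd 3 (q + 1) * ((q + 1) * (D * 65)))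
        (y := (q + 1) * (q ^ 2 - 1) * (q ^ 3 + 1)) ?_ ?_ ?_).symm
      · refine Odd.mul (Odd.of_dvd_nat (by decide) (Nat.gcd_dvd_left 3 (q + 1)))
          (hqe.add_one.mul (hoddD.mul (by decide)))
      · refine (hqe.add_one.mul ?_).mul (Even.add_one (Nat.even_pow.2 ⟨hqe, by norm_num⟩))
        refine Nat.Even.sub_odd (Nat.one_le_pow _ _ ?_) (Nat.even_pow.2 ⟨hqe, by norm_num⟩) odd_one
        rw [hq']; positivity
      · rw [pow_mul', ← hq']
        linarith
    obtain rfl : m = 2 := by omega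
    obtain rfl : q = 4 := by rw [hq']; norm_num
    norm_num at hP
    omega

/-- The non-abelian case. -/
theorem unitary_case (hna : ¬ IsMulCommutative Q) :
    Pb = Q.map (K).subtype ∧
      (∃ g ∈ H, (∃ a, g ^ (5 ^ a) = 1) ∧ (∀ w ∈ omega (P : Subgroup C), Commute g w) ∧
        ∀ x ∈ P, Commute (f g) (f x) → f x ∈ Zb) ∧
      ∃ x ∈ P, ∃ w, Other P t w ∧ f (x * x) = f w := by
  classical
  haveI : Fact (Nat.Prime 2) := ⟨Nat.prime_two⟩
  haveI : Fact (Nat.Prime 5) := ⟨by norm_num⟩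
  haveI := c.faithful hA hz
  obtain ⟨hq64, hdd15⟩ := c.card_q hA hz h h8 hna
  set Q' := Q.map (K).subtype with hQ'
  set b : (C ⧸ N) ⧸ Hb := ((t' : C ⧸ N) : (C ⧸ N) ⧸ Hb) with hb
  let D : Subgroup (C ⧸ N) := K ⊓ Hb ⊓ stabilizer (C ⧸ N) b
  have hD : ∀ x, x ∈ D ↔ x ∈ K ∧ x ∈ Hb ∧ x • b = b := fun x => and_assoc
  obtain ⟨hDc, hD3⟩ := c.card_dd hA hz h h8 D hD
  rw [hDc, hdd15] at hD3
  set Dz := D ⊓ Subgroup.centralizer (Zb : Set (C ⧸ N)) with hDz
  have hDz5 : Nat.card Dz = 5 := by omega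
  have hQP : Q' ≤ Pb := by rw [hQ', c.qmap_eq hA hz h]; exact inf_le_left
  have hQ64 : Nat.card Q' = 64 := by rw [hQ', Subgroup.card_subtype, hq64]
  have hQH : Q' ≤ Hb := hQP.trans c.pb_le
  have hQn : ∀ {x : C ⧸ N}, x ∈ Hb → ∀ {u}, u ∈ Q' → x * u * x⁻¹ ∈ Q' := fun {x} hx {u} hu => by
    rw [hQ', c.qmap_eq hA hz h] at hu ⊢
    exact ⟨c.pb_normalised hx hu.1, (c.simple hA hz).elim fun _ _ =>
      (inferInstance : (K).Normal).conj_mem u hu.2 x⟩
  have hZQ : Zb ≤ Q' := c.zb_le_q hA hz h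
  -- the element of order five
  obtain ⟨⟨d, hdDz⟩, hd⟩ := exists_prime_orderOf_dvd_card' (G := Dz) 5 (by rw [hDz5])
  rw [← Subgroup.orderOf_coe] at hd
  change orderOf d = 5 at hd
  obtain ⟨hdD, hdZ⟩ := hdDz
  obtain ⟨-, hdH, hdb⟩ := (hD d).1 hdD
  have hd5 : d ^ 5 = 1 := hd ▸ pow_orderOf_eq_one d
  have hd1 : d ≠ 1 := fun e => by rw [e, orderOf_one] at hd; omega
  have hdZc : ∀ v ∈ Zb, Commute d v := fun v hv => (Subgroup.mem_centralizer_iff.1 hdZ v hv).symm
  have hDzd : ∀ x ∈ Dz, ∃ i : ℤ, d ^ i = x := by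
    intro x hx
    have hle : Subgroup.zpowers d ≤ Dz := Subgroup.zpowers_le.2 ⟨hdD, hdZ⟩
    have := Subgroup.eq_of_le_of_card_ge hle (by rw [Nat.card_zpowers, hd, hDz5])
    exact Subgroup.mem_zpowers_iff.1 (this ▸ hx)
  -- its fixed points in `Q'`
  have hfixQ : ∀ u ∈ Q', Commute d u → u ∈ Zb := by
    intro u hu hdu
    let W : Subgroup (C ⧸ N) := Q' ⊓ Subgroup.centralizer ({d} : Set (C ⧸ N))
    have hWm : u ∈ W := ⟨hu, Involution.mem_centralizer_iff_commute.2 hdu.symm⟩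
    have hZW : Zb ≤ W := fun v hv =>
      ⟨hZQ hv, Involution.mem_centralizer_iff_commute.2 (hdZc v hv).symm⟩
    set A := Subgroup.zpowers d
    have hWinv : ∀ v ∈ Q', d * v * d⁻¹ ∈ Q' := fun v hv => hQn hdH hv
    -- orbit count on `Q'`
    have hA5 : IsPGroup 5 A := IsPGroup.of_card (n := 1) (by rw [Nat.card_zpowers, hd, pow_one])
    have hnorm : A ≤ Subgroup.normalizer (Q' : Set (C ⧸ N)) := Subgroup.zpowers_le.2
      (Subgroup.mem_normalizer_fintype (S := (Q' : Set (C ⧸ N))) hWinv)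
    letI : MulAction A Q' :=
      { smul := fun a v => ⟨(a : C ⧸ N) * v * (a : C ⧸ N)⁻¹,
          (Subgroup.mem_normalizer_iff.1 (hnorm a.2) _).1 v.2⟩
        one_smul := fun v => Subtype.ext (by
          show ((1 : A) : C ⧸ N) * v * ((1 : A) : C ⧸ N)⁻¹ = v
          simp)
        mul_smul := fun a b v => Subtype.ext (by
          show ((a * b : A) : C ⧸ N) * v * ((a * b : A) : C ⧸ N)⁻¹ =
            a * (b * v * (b : C ⧸ N)⁻¹) * (a : C ⧸ N)⁻¹
          rw [Subgroup.coe_mul]; group) }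
    have hmod := hA5.card_modEq_card_fixedPoints Q'
    have hfp : Nat.card (MulAction.fixedPoints A Q') = Nat.card W := by
      refine Nat.card_congr
        { toFun := fun v => ⟨((v : Q') : C ⧸ N), (v : Q').2, Involution.mem_centralizer_iff_commute.2 (by
            have := congrArg Subtype.val (v.2 ⟨d, Subgroup.mem_zpowers d⟩)
            exact (mul_inv_eq_iff_eq_mul.1 this).symm)⟩
          invFun := fun w => ⟨⟨w, w.2.1⟩, fun a => Subtype.ext (by
            show (a : C ⧸ N) * w * (a : C ⧸ N)⁻¹ = w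
            obtain ⟨i, hi⟩ := Subgroup.mem_zpowers_iff.1 a.2
            have hc := ((Involution.mem_centralizer_iff_commute.1 w.2.2).symm.zpow_left i)
            rw [← hi, hc.eq, mul_inv_cancel_right])⟩
          left_inv := fun v => rfl
          right_inv := fun w => rfl }
    rw [hfp, hQ64] at hmod
    have hW64 : Nat.card W ∣ 64 := hQ64 ▸ Subgroup.card_dvd_of_le inf_le_left
    have hW4 : 4 ∣ Nat.card W := c.card_zb h8 ▸ Subgroup.card_dvd_of_le hZW
    have hWne : Nat.card W ≠ 64 := fun e => hd1 (c.eq_one hA hz h hdH hdb fun v hv =>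
      (Involution.mem_centralizer_iff_commute.1
        ((Subgroup.eq_of_le_of_card_ge (inf_le_left : W ≤ Q') (by rw [hQ64, e])).ge hv).2).symm)
    obtain ⟨k, -, hk⟩ := (Nat.dvd_prime_pow Nat.prime_two).1 (show Nat.card W ∣ 2 ^ 6 from hW64)
    have hW : Nat.card W = 4 := by
      rw [hk] at hmod hW4 hWne ⊢
      have hk6 : k ≤ 6 := by
        by_contra hk7
        have h1 := Nat.le_of_dvd (by norm_num) hW64
        rw [hk] at h1
        have : 2 ^ 7 ≤ 2 ^ k := Nat.pow_le_pow_right (by norm_num) (by omega)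
        omega
      exact four_of_mod k hk6 hWne hW4 hmod
    exact (Subgroup.eq_of_le_of_card_ge hZW (by rw [hW, c.card_zb h8])).ge hWm
  -- `O = 1`
  obtain ⟨g₀, hg₀, hg₀d⟩ := hdH
  obtain ⟨e, hge, a, hga⟩ := exists_five_lift f (g := g₀) (by rw [hg₀d, hd5])
  set g := g₀ ^ e
  have hgd : f g = d := hge.trans hg₀d
  have hgH : g ∈ H := pow_mem hg₀ e
  have hgP : ∀ x ∈ Pb, d * x * d⁻¹ ∈ Pb := fun x hx => c.pb_normalised ⟨g, hgH, hgd⟩ hx
  have hdH' : d ∈ Hb := ⟨g, hgH, hgd⟩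
  have hZc : ∀ u ∈ Q', ∀ v ∈ Zb, Commute u v := fun u hu v hv => c.zb_comm (hQP hu) hv
  have hO : ∀ s ∈ Pb, s • b = b → s = 1 := by
    intro s hs hsb
    have hsH : s ∈ Hb := c.pb_le hs
    have hmemDz : s * d * s⁻¹ ∈ Dz := by
      refine ⟨(hD _).2 ⟨(inferInstance : (K).Normal).conj_mem d ((hD d).1 hdD).1 s,
        mul_mem (mul_mem hsH hdH') (inv_mem hsH), ?_⟩, Subgroup.mem_centralizer_iff.2 fun v hv => ?_⟩
      · rw [mul_smul, mul_smul, inv_smul_eq_iff.2 hsb.symm, hdb, hsb]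
      · have hc : Commute v s := (c.zb_comm hs hv).symm
        exact ((hc.mul_right (hdZc v hv).symm).mul_right hc.inv_right).eq
    -- the commutator is trivial
    obtain ⟨i, hi⟩ := hDzd _ hmemDz
    set k := s * d * s⁻¹ * d⁻¹ with hk
    have hk5 : k ^ 5 = 1 := by
      have : k = d ^ (i - 1) := by rw [hk, ← hi, zpow_sub, zpow_one]
      rw [this, ← zpow_natCast, ← zpow_mul, mul_comm, zpow_mul, zpow_natCast, hd5, one_zpow]
    obtain ⟨j, hj⟩ : ∃ j, k ^ (2 ^ j) = 1 := by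
      obtain ⟨j, hj⟩ := (P.isPGroup'.map f) ⟨k, by
        rw [hk, show s * d * s⁻¹ * d⁻¹ = s * (d * s⁻¹ * d⁻¹) by group]
        exact mul_mem hs (hgP _ (inv_mem hs))⟩
      exact ⟨j, congrArg Subtype.val hj⟩
    have hk1 : k = 1 := orderOf_eq_one_iff.1 (Nat.eq_one_of_dvd_coprimes
      (Nat.Coprime.pow_left j (by norm_num : Nat.Coprime 2 5))
      (orderOf_dvd_of_pow_eq_one hj) (orderOf_dvd_of_pow_eq_one hk5))
    have hsd : Commute s d := mul_inv_eq_iff_eq_mul.1 (mul_inv_eq_one.1 hk1)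
    have hds : ∀ u, d * (s * u * s⁻¹) * d⁻¹ = s * (d * u * d⁻¹) * s⁻¹ := fun u => by
      calc d * (s * u * s⁻¹) * d⁻¹ = (d * s) * u * (d * s)⁻¹ := by group
        _ = (s * d) * u * (s * d)⁻¹ := by rw [hsd.eq]
        _ = _ := by group
    set U := commSub Q' Zb s hZc with hUdef
    have hZU : Zb ≤ U := fun v hv => ⟨hZQ hv, by
      rw [(c.zb_comm hs hv).eq, mul_inv_cancel_right, mul_inv_cancel]; exact one_mem _⟩
    have hfix : ∀ W : Subgroup (C ⧸ N), W ≤ Q' → Zb ≤ W → ∀ u ∈ W, Commute d u ↔ u ∈ Zb :=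
      fun W hW _ u hu => ⟨hfixQ u (hW hu), fun hv => hdZc u hv⟩
    have hUle : U ≤ Q' := fun u hu => hu.1
    have hUinv : ∀ u ∈ U, d * u * d⁻¹ ∈ U := by
      rintro u ⟨hu, hu'⟩
      refine ⟨hQn hdH' hu, ?_⟩
      rw [show s * (d * u * d⁻¹) * s⁻¹ * (d * u * d⁻¹)⁻¹ = d * (s * u * s⁻¹ * u⁻¹) * d⁻¹ by
        rw [← hds]; group, (hdZc _ hu').eq, mul_inv_cancel_right]
      exact hu'
    have hU4 : Nat.card U ≠ 4 := by
      intro hU
      have hUZ : Zb = U := Subgroup.eq_of_le_of_card_ge hZU (by rw [hU, c.card_zb h8])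
      -- `Q'/Zb` meets the centre of `Pb/Zb`
      set Zp := (Zb).subgroupOf Pb
      haveI : Zp.Normal := ⟨fun v hv x => by
        rw [Subgroup.mem_subgroupOf] at hv ⊢
        exact c.zb_normalised (c.pb_le x.2) hv⟩
      set π := QuotientGroup.mk' Zp
      set M := ((Q').subgroupOf Pb).map π
      haveI : ((Q').subgroupOf Pb).Normal := ⟨fun v hv x => by
        rw [Subgroup.mem_subgroupOf] at hv ⊢
        exact hQn (c.pb_le x.2) hv⟩
      haveI : M.Normal := Subgroup.Normal.map inferInstance π (QuotientGroup.mk'_surjective Zp)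
      have hMne : M ≠ ⊥ := by
        intro e
        have : Q' ≤ Zb := fun u hu => by
          have h1 : π ⟨u, hQP hu⟩ ∈ M := ⟨_, Subgroup.mem_subgroupOf.2 hu, rfl⟩
          rw [e, Subgroup.mem_bot] at h1
          exact Subgroup.mem_subgroupOf.1 ((QuotientGroup.eq_one_iff _).1 h1)
        have := Subgroup.card_dvd_of_le this
        rw [hQ64, c.card_zb h8] at this
        norm_num at this
      obtain ⟨⟨y, hy⟩, hyne⟩ := Subgroup.ne_bot_iff_exists_ne_one.1
        (PGroup.inf_center_ne_bot ((P.isPGroup'.map f).to_quotient Zp) hMne)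
      obtain ⟨⟨⟨u, huP⟩, huQ, rfl⟩, hcen⟩ := hy
      refine hyne (Subtype.ext ((QuotientGroup.eq_one_iff _).2 (Subgroup.mem_subgroupOf.2 ?_)))
      show u ∈ Zb
      rw [hUZ]
      refine ⟨Subgroup.mem_subgroupOf.1 huQ, ?_⟩
      have h1 := Subgroup.mem_center_iff.1 hcen (π ⟨s, hs⟩)
      have h2 : π (⟨s, hs⟩ * ⟨u, huP⟩ * ⟨s, hs⟩⁻¹ * ⟨u, huP⟩⁻¹) = 1 := by
        rw [map_mul, map_mul, map_mul, map_inv, map_inv, h1, mul_inv_cancel_right, mul_inv_cancel]
      exact Subgroup.mem_subgroupOf.1 ((QuotientGroup.eq_one_iff _).1 h2)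
    have hU64 : U = Q' := by
      rcases five_invariant hd5 hUinv (hQ64 ▸ Subgroup.card_dvd_of_le hUle) hZU (c.card_zb h8)
        (hfix U hUle hZU) with e | e
      · exact absurd e hU4
      · exact Subgroup.eq_of_le_of_card_ge hUle (by rw [e, hQ64])
    -- the centraliser of `s`
    set W := (commHom Q' Zb s hZc).ker.map U.subtype
    have hWle : W ≤ Q' := fun u hu => hUle (Subgroup.map_subtype_le _ hu)
    have hWmem : ∀ u, u ∈ W ↔ u ∈ U ∧ s * u * s⁻¹ * u⁻¹ = 1 := by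
      intro u
      constructor
      · rintro ⟨v, hv, rfl⟩
        exact ⟨v.2, congrArg Subtype.val hv⟩
      · rintro ⟨hu, he⟩
        exact ⟨⟨u, hu⟩, Subtype.ext he, rfl⟩
    have hW16 : 16 ≤ Nat.card W := by
      rw [Subgroup.card_subtype]
      have h1 := Subgroup.card_mul_index (commHom Q' Zb s hZc).ker
      rw [Subgroup.index_ker] at h1
      have h2 : Nat.card (commHom Q' Zb s hZc).range ≤ 4 :=
        (Subgroup.card_le_card_group _).trans (c.card_zb h8).le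
      have h3 : Nat.card ↥(commSub Q' Zb s hZc) = 64 := by rw [← hUdef, hU64, hQ64]
      rw [h3] at h1
      nlinarith
    have hZW : Zb ≤ W := fun v hv => (hWmem v).2 ⟨hZU hv, by
      rw [(c.zb_comm hs hv).eq, mul_inv_cancel_right, mul_inv_cancel]⟩
    have hWinv : ∀ u ∈ W, d * u * d⁻¹ ∈ W := fun u hu => by
      obtain ⟨hu1, hu2⟩ := (hWmem u).1 hu
      refine (hWmem _).2 ⟨hUinv u hu1, ?_⟩
      rw [mul_inv_eq_one] at hu2 ⊢
      rw [← hds, hu2]
    have hW64 : W = Q' := by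
      rcases five_invariant hd5 hWinv (hQ64 ▸ Subgroup.card_dvd_of_le hWle) hZW (c.card_zb h8)
        (hfix W hWle hZW) with e | e
      · omega
      · exact Subgroup.eq_of_le_of_card_ge hWle (by rw [e, hQ64])
    exact c.eq_one hA hz h hsH hsb fun u hu => by
      have hu' := ((hWmem u).1 (hW64.ge hu)).2
      exact mul_inv_eq_iff_eq_mul.1 (mul_inv_eq_one.1 hu')
  have hPQ : Pb = Q' := by
    refine le_antisymm (fun s hs => ?_) hQP
    obtain ⟨u, hu, -, hfix⟩ := c.exists_fix hA hz h (c.pb_le hs)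
    have h1 := hO _ (mul_mem (inv_mem (hQP hu)) hs) hfix
    rw [inv_mul_eq_one] at h1
    exact h1 ▸ hu
  refine ⟨hPQ, ⟨g, hgH, ⟨a, hga⟩, fun w hw => ?_, fun x hx hxc => ?_⟩, ?_⟩
  · have hgn := c.le_normalizer hgH
    have hodd : Odd (orderOf g) := Odd.of_dvd_nat (Odd.pow (by decide)) (orderOf_dvd_of_pow_eq_one hga)
    refine mul_inv_eq_iff_eq_mul.1 (Bender.eq_of_sq_fix hodd ?_)
    have hfw : f (g * w * g⁻¹) = f w := by
      rw [map_mul, map_mul, map_inv, hgd, (hdZc (f w) ⟨w, hw, rfl⟩).eq, mul_inv_cancel_right]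
    have h1 : g * w * g⁻¹ * w ∈ N := (QuotientGroup.eq_one_iff _).1 (by
      show f (g * w * g⁻¹ * w) = 1
      rw [map_mul, hfw, ← map_mul, hw.2.1, map_one])
    by_cases h2 : g * w * g⁻¹ * w = 1
    · have e : g * w * g⁻¹ = w := (eq_inv_of_mul_eq_one_left h2).trans (inv_eq_of_mul_eq_one_right hw.2.1)
      rw [e, e]
    · have e : g * w * g⁻¹ = t * w := by
        rw [← c.eq_t (orderOf_of_mem_omega (mul_mem (conj_mem_omega hgn hw) hw) h2) h1]
        calc g * w * g⁻¹ = g * w * g⁻¹ * (w * w) := by rw [hw.2.1, mul_one]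
          _ = g * w * g⁻¹ * w * w := (mul_assoc _ _ _).symm
      rw [e]
      calc g * (t * w) * g⁻¹ = t * (g * w * g⁻¹) := by
            rw [← mul_assoc g, (c.t_central g).eq]; group
        _ = w := by rw [e, ← mul_assoc, mul_self c.orderOf_t, one_mul]
  · rw [hgd] at hxc
    exact hfixQ _ (hPQ.le ⟨x, hx, rfl⟩) hxc
  · obtain ⟨u, hu⟩ : ∃ u : ↥Q, u * u ≠ 1 := by
      by_contra hcon
      push Not at hcon
      have hinv : ∀ u : ↥Q, u⁻¹ = u := fun u => inv_eq_of_mul_eq_one_right (hcon u)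
      exact hna ⟨⟨fun x y => by rw [← hinv (x * y), mul_inv_rev, hinv, hinv]⟩⟩
    obtain ⟨hQ2, -⟩ := kernelShape _ _ _ _ _ h (c.twoInvolutions hA hz)
    obtain ⟨m, hm⟩ := IsPGroup.iff_orderOf.1 hQ2 u
    rcases m with _ | _ | m
    · have hu1 : u = 1 := orderOf_eq_one_iff.1 (by simpa using hm)
      exact absurd (by rw [hu1, one_mul]) hu
    · exact absurd (mul_self (by simpa using hm)) hu
    set v := u ^ (2 ^ m) with hv
    have hvv : v * v = u ^ (2 ^ (m + 1)) := by rw [hv, ← pow_add, pow_succ, mul_two]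
    have hvne : v * v ≠ 1 := by
      rw [hvv]
      exact pow_ne_one_of_lt_orderOf (by positivity) (by rw [hm]; exact Nat.pow_lt_pow_right (by norm_num) (by omega))
    have hv4 : v * v * (v * v) = 1 := by
      rw [hvv, ← pow_add, ← mul_two, ← pow_succ, ← hm, pow_orderOf_eq_one]
    obtain ⟨x, hx, hxe⟩ := hPQ.ge (show ((v : ↥K) : C ⧸ N) ∈ Q' from ⟨v, v.2, rfl⟩)
    have hzb : f (x * x) ∈ Zb := by
      refine (c.zb_iff hA hz _).1 ⟨?_, ?_, ?_⟩
      · rw [map_mul, hxe]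
        exact congrArg (fun w : ↥Q => ((w : ↥K) : C ⧸ N)) hv4
      · exact c.pb_le ⟨x * x, mul_mem hx hx, rfl⟩
      · rw [map_mul, hxe]; exact mul_mem (v : ↥K).2 (v : ↥K).2
    obtain ⟨w, hw, hwe⟩ := hzb
    have hne : f w ≠ 1 := by
      rw [hwe, map_mul, hxe]
      exact fun e => hvne (Subtype.ext (Subtype.ext e))
    refine ⟨x, hx, w, ⟨hw, fun e => hne (by rw [e, map_one]),
      fun e => hne (by rw [e]; exact (QuotientGroup.eq_one_iff t).2 c.t_mem_core)⟩, hwe.symm⟩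

end Config

end Cfsg.Agent.CentralMeet
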