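/-
Assembly of S3185 (owner: helper56).

* `no_four`, `core_meet` : the 2-part of the core of `C(t) ⊓ N(S)` in `C(t)` is `⟨t⟩`
* `abelian_final`, `unitary_final` : the two cases
* `conclusion` : the theorem, given Aschbacher's criterion, the Klein four case of Gorenstein-Walter
  and the three involution theorem.
-/
import Cfsg.Agent.Lib.CentralMeet.Bridge
import Cfsg.Agent.Lib.CentralMeet.Unitary
import Cfsg.Agent.Lib.CentralMeet.TwoAut
import Cfsg.Agent.Lib.CentralMeet.Janko
import Cfsg.Agent.Lib.Aschbacher.Criterion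

set_option autoImplicit false
set_option linter.style.haveILetI false
set_option linter.unusedSectionVars false

namespace Cfsg.Agent.CentralMeet

open Cfsg Involution

universe u

theorem commute_conj {X : Type*} [Group X] {a b : X} (n : X) (h : Commute a b) :
    Commute (n * a * n⁻¹) (n * b * n⁻¹) := h.map (MulAut.conj n).toMonoidHom

variable {G : Type u} [Group G] [Finite G] {S : Sylow 2 G} {t : G}

section core

variable (ht : t ∈ omega (S : Subgroup G))
  (c : Config (sylowCent ht) (meetCent S t) (selfCent t))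
include c

theorem conj_pow_mem {y : G} (hy : y ∈ Subgroup.normalizer ((S : Subgroup G) : Set G)) {x : G}
    (hx : x ∈ S) (k : ℕ) : y ^ k * x * (y ^ k)⁻¹ ∈ S :=
  (Subgroup.mem_normalizer_iff.1 (pow_mem hy k) x).1 hx

/-- No square root of `t` in a cycle-invariant set of elements squaring into the core. -/
theorem no_four (T : Set G) (hTS : ∀ x ∈ T, x ∈ S) {y : G}
    (hcyc : ∀ v ∈ omega (S : Subgroup G), ∀ w ∈ omega (S : Subgroup G), v ≠ 1 → w ≠ 1 →
      ∃ k : ℕ, y ^ k * v * (y ^ k)⁻¹ = w)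
    (hy : y ∈ Subgroup.normalizer ((S : Subgroup G) : Set G))
    (hTy : ∀ x ∈ T, ∀ k : ℕ, y ^ k * x * (y ^ k)⁻¹ ∈ T)
    (hsq : ∀ x : Subgroup.centralizer ({t} : Set G), (x : G) ∈ T → x * x ∈ (meetCent S t).normalCore)
    {r : Subgroup.centralizer ({t} : Set G)} (hr : (r : G) ∈ T) (hrr : r * r = selfCent t) : False := by
  obtain ⟨z, hzZ, hz1, hzt⟩ := c.exists_z
  have hzG := (mem_omega_sylowCent ht z).1 hzZ
  have ht1 : t ≠ 1 := fun e => ne_one c.orderOf_t (Subtype.ext e)
  obtain ⟨k, hk⟩ := hcyc t ht z hzG ht1 fun e => hz1 (Subtype.ext e)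
  have hx := hTy _ hr k
  set x := y ^ k * (r : G) * (y ^ k)⁻¹ with hxdef
  have hxC : x ∈ Subgroup.centralizer ({t} : Set G) := sylow_le_cent ht (hTS _ hx)
  have e : (⟨x, hxC⟩ : Subgroup.centralizer ({t} : Set G)) * ⟨x, hxC⟩ = z := Subtype.ext (by
    show x * x = z
    have hrr' : (r : G) * r = t := congrArg Subtype.val hrr
    calc x * x = y ^ k * ((r : G) * r) * (y ^ k)⁻¹ := by rw [hxdef]; group
      _ = z := by rw [hrr', hk])
  exact hzt (c.eq_t (orderOf_of_mem_omega hzZ hz1) (e ▸ hsq ⟨x, hxC⟩ hx))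

/-- The core meets `S` in `⟨t⟩`. -/
theorem core_meet (T : Set G) (hTS : ∀ x ∈ T, x ∈ S) {y : G}
    (hcyc : ∀ v ∈ omega (S : Subgroup G), ∀ w ∈ omega (S : Subgroup G), v ≠ 1 → w ≠ 1 →
      ∃ k : ℕ, y ^ k * v * (y ^ k)⁻¹ = w)
    (hy : y ∈ Subgroup.normalizer ((S : Subgroup G) : Set G))
    (hTy : ∀ x ∈ T, ∀ k : ℕ, y ^ k * x * (y ^ k)⁻¹ ∈ T)
    (hsq : ∀ x : Subgroup.centralizer ({t} : Set G), (x : G) ∈ T → x * x ∈ (meetCent S t).normalCore)
    (hcont : ∀ x : Subgroup.centralizer ({t} : Set G), x ∈ sylowCent ht →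
      x ∈ (meetCent S t).normalCore → (x : G) ∈ T)
    {x : Subgroup.centralizer ({t} : Set G)} (hx : x ∈ sylowCent ht)
    (hxN : x ∈ (meetCent S t).normalCore) : x = 1 ∨ x = selfCent t := by
  haveI : Fact (Nat.Prime 2) := ⟨Nat.prime_two⟩
  obtain ⟨k, hk⟩ := IsPGroup.iff_orderOf.1 (sylowCent ht).isPGroup' ⟨x, hx⟩
  rw [← Subgroup.orderOf_coe] at hk
  change orderOf x = 2 ^ k at hk
  rcases k with _ | _ | k
  · exact Or.inl (orderOf_eq_one_iff.1 (by simpa using hk))
  · exact Or.inr (c.eq_t (by simpa using hk) hxN)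
  · exfalso
    set r := x ^ (2 ^ k) with hr
    have hrr : r * r = x ^ (2 ^ (k + 1)) := by rw [hr, ← pow_add, pow_succ, mul_two]
    have hrne : r * r ≠ 1 := by
      rw [hrr]
      exact pow_ne_one_of_lt_orderOf (by positivity)
        (by rw [hk]; exact Nat.pow_lt_pow_right (by norm_num) (by omega))
    have hr4 : r * r * (r * r) = 1 := by
      rw [hrr, ← pow_add, ← mul_two, ← pow_succ, ← hk, pow_orderOf_eq_one]
    have hrt : r * r = selfCent t := c.eq_t (orderOf_of_sq hr4 hrne)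
      (mul_mem (pow_mem hxN _) (pow_mem hxN _))
    exact no_four ht c T hTS hcyc hy hTy hsq
      (hcont r (pow_mem hx _) (pow_mem hxN _)) hrt

end core

variable [IsSimpleGroup G]

/-- An abelian kernel: the first Janko group. -/
theorem abelian_final (hA : Aschbacher.CoreFreeCriterion.{u}) (hG : ¬ IsMulCommutative G)
    (hR : RankOneMeet G) (ht : t ∈ omega (S : Subgroup G))
    (c : Config (sylowCent ht) (meetCent S t) (selfCent t)) {y : G}
    (hy : y ∈ Subgroup.normalizer ((S : Subgroup G) : Set G))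
    (hcyc : ∀ v ∈ omega (S : Subgroup G), ∀ w ∈ omega (S : Subgroup G), v ≠ 1 → w ≠ 1 →
      ∃ k : ℕ, y ^ k * v * (y ^ k)⁻¹ = w)
    (h60 : Nat.card (_ ⧸ (meetCent S t).normalCore) = 60)
    (hXs : IsSimpleGroup (_ ⧸ (meetCent S t).normalCore))
    (hPZ : Subgroup.map (QuotientGroup.mk' (meetCent S t).normalCore)
        (sylowCent ht : Subgroup (Subgroup.centralizer ({t} : Set G))) =
      Subgroup.map (QuotientGroup.mk' (meetCent S t).normalCore)
        (omega (sylowCent ht : Subgroup (Subgroup.centralizer ({t} : Set G)))))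
    (hcent : Subgroup.centralizer (Subgroup.map (QuotientGroup.mk' (meetCent S t).normalCore)
        (sylowCent ht : Subgroup (Subgroup.centralizer ({t} : Set G))) : Set _) ≤
      Subgroup.map (QuotientGroup.mk' (meetCent S t).normalCore)
        (omega (sylowCent ht : Subgroup (Subgroup.centralizer ({t} : Set G))))) : Conclusion G := by
  classical
  haveI : Fact (Nat.Prime 2) := ⟨Nat.prime_two⟩
  set C := Subgroup.centralizer ({t} : Set G) with hCdef
  set N := (meetCent S t).normalCore with hNdef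
  have ht1 : t ≠ 1 := fun e => ne_one c.orderOf_t (Subtype.ext e)
  have ht2 := orderOf_of_mem_omega ht ht1
  have hSC := sylow_le_cent ht
  have hmap : ∀ x : C, (x : G) ∈ S → ∃ w : C, w ∈ omega (sylowCent ht : Subgroup C) ∧
      QuotientGroup.mk' N w = QuotientGroup.mk' N x := fun x hx =>
    hPZ.le ⟨x, (mem_sylowCent ht x).2 hx, rfl⟩
  have hsq : ∀ x : C, (x : G) ∈ S → x * x ∈ N := fun x hx => by
    obtain ⟨w, hw, e⟩ := hmap x hx
    refine (QuotientGroup.eq_one_iff _).1 ?_
    show QuotientGroup.mk' N (x * x) = 1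
    rw [map_mul, ← e, ← map_mul, hw.2.1, map_one]
  have hmeet : ∀ {x : C}, x ∈ sylowCent ht → x ∈ N → x = 1 ∨ x = selfCent t := fun hx hxN =>
    core_meet ht c (S : Set G) (fun x hx => hx) hcyc hy (fun x hx k => conj_pow_mem ht c hy hx k)
      hsq (fun x hx _ => (mem_sylowCent ht x).1 hx) hx hxN
  have hSZ : ∀ x ∈ S, x ∈ omega (S : Subgroup G) := by
    intro x hx
    obtain ⟨w, hw, e⟩ := hmap ⟨x, hSC hx⟩ hx
    have hm : w⁻¹ * ⟨x, hSC hx⟩ ∈ N := QuotientGroup.eq.1 e
    have hwZ := (mem_omega_sylowCent ht w).1 hw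
    rcases hmeet (mul_mem (inv_mem hw.1) ((mem_sylowCent ht _).2 hx)) hm with h | h
    · rw [inv_mul_eq_one] at h
      have e' : (w : G) = x := congrArg Subtype.val h
      exact e' ▸ hwZ
    · rw [inv_mul_eq_iff_eq_mul] at h
      have : x = (w : G) * t := congrArg Subtype.val h
      exact this ▸ mul_mem hwZ ht
  have hSab : IsMulCommutative ↥(sylowCent ht : Subgroup C) := ⟨⟨fun a b => Subtype.ext (Subtype.ext
    ((hSZ _ ((mem_sylowCent ht _).1 b.2)).2.2 _ ((mem_sylowCent ht _).1 a.2)).eq)⟩⟩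
  -- odd elements of the core centralise `S`
  have hoddN : ∀ n : C, n ∈ N → Odd (orderOf n) → ∀ s ∈ S, Commute (n : G) s := by
    intro n hn hodd s hs
    set p : C := ⟨s, hSC hs⟩
    have hp : p ∈ sylowCent ht := (mem_sylowCent ht p).2 hs
    have hnp : n * p * n⁻¹ ∈ sylowCent ht :=
      (Subgroup.mem_normalizer_iff.1 (c.le_normalizer (Subgroup.normalCore_le _ hn)) p).1 hp
    have hcm : n * p * n⁻¹ * p⁻¹ ∈ N := by
      rw [show n * p * n⁻¹ * p⁻¹ = n * (p * n⁻¹ * p⁻¹) by group]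
      exact mul_mem hn ((inferInstance : N.Normal).conj_mem _ (inv_mem hn) p)
    have e2 : n * (n * p * n⁻¹) * n⁻¹ = p := by
      rcases hmeet (mul_mem hnp (inv_mem hp)) hcm with h | h
      · rw [mul_inv_eq_one] at h
        rw [h, h]
      · rw [mul_inv_eq_iff_eq_mul] at h
        calc n * (n * p * n⁻¹) * n⁻¹ = n * (selfCent t * p) * n⁻¹ := by rw [h]
          _ = (n * selfCent t * n⁻¹) * (n * p * n⁻¹) := by group
          _ = selfCent t * (selfCent t * p) := by rw [(c.t_central n).eq, mul_inv_cancel_right, h]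
          _ = p := by rw [← mul_assoc, mul_self c.orderOf_t, one_mul]
    have := Bender.eq_of_sq_fix hodd e2
    exact congrArg Subtype.val (mul_inv_eq_iff_eq_mul.1 this)
  have hcentS : ∀ x : C, Odd (orderOf x) → (∀ s ∈ S, Commute (x : G) s) → x ∈ N := by
    intro x hodd hxs
    obtain ⟨w, hw, e⟩ := hcent (Subgroup.mem_centralizer_iff.2 (by
      rintro _ ⟨p, hp, rfl⟩
      rw [← map_mul, ← map_mul]
      exact congrArg _ (Subtype.ext (hxs _ ((mem_sylowCent ht p).1 hp)).eq.symm)) :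
      QuotientGroup.mk' N x ∈ _)
    refine (QuotientGroup.eq_one_iff x).1 (orderOf_eq_one_iff.1 (Nat.eq_one_of_dvd_coprimes
      (Nat.coprime_two_left.2 hodd) (orderOf_dvd_of_pow_eq_one ?_)
      (orderOf_map_dvd (QuotientGroup.mk' N) x)))
    show (QuotientGroup.mk' N x) ^ 2 = 1
    rw [← e, pow_two, ← map_mul, hw.2.1, map_one]
  -- the subgroup generated by the odd elements centralising `S`
  set OS : Set G := {x | Odd (orderOf x) ∧ ∀ s ∈ S, Commute x s} with hOS
  set F := Subgroup.closure OS with hF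
  have hOSC : ∀ x ∈ OS, x ∈ C := fun x hx => mem_centralizer_iff_commute.2 (hx.2 t ht.1)
  have hFt : ∀ g ∈ C, ∀ x ∈ OS, g * x * g⁻¹ ∈ OS := by
    intro g hg x hx
    have hxN : (⟨x, hOSC x hx⟩ : C) ∈ N :=
      hcentS _ (by rw [← Subgroup.orderOf_coe]; exact hx.1) hx.2
    refine ⟨by rw [orderOf_conj]; exact hx.1, fun s hs => ?_⟩
    exact hoddN _ ((inferInstance : N.Normal).conj_mem _ hxN ⟨g, hg⟩)
      (by rw [orderOf_conj, ← Subgroup.orderOf_coe]; exact hx.1) s hs
  have hFy : ∀ g ∈ Subgroup.normalizer ((S : Subgroup G) : Set G), ∀ x ∈ OS, g * x * g⁻¹ ∈ OS := by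
    intro g hg x hx
    refine ⟨by rw [orderOf_conj]; exact hx.1, fun s hs => ?_⟩
    have := (hx.2 _ ((Subgroup.mem_normalizer_iff''.1 hg s).1 hs)).map (MulAut.conj g).toMonoidHom
    simpa [mul_assoc] using this
  by_cases hFbot : F = ⊥
  · -- the core is `⟨t⟩`
    have hN2 : ∀ n ∈ N, n = 1 ∨ n = selfCent t := by
      intro n hn
      obtain ⟨r, v, ⟨k, hr⟩, hv, hrv, hrn, hvn⟩ := NormEven.two_odd_parts n
      have hvN : v ∈ N := (Subgroup.zpowers_le.2 hn) hvn
      have hv1 : v = 1 := by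
        have h1 : (v : G) ∈ OS := ⟨by rw [Subgroup.orderOf_coe]; exact hv, hoddN v hvN hv⟩
        have h2 := Subgroup.subset_closure h1
        rw [← hF, hFbot] at h2
        exact Subtype.ext (Subgroup.mem_bot.1 h2)
      rw [hrv, hv1, mul_one]
      exact hmeet (c.two_elt_mem (Subgroup.normalCore_le _ ((Subgroup.zpowers_le.2 hn) hrn)) hr)
        ((Subgroup.zpowers_le.2 hn) hrn)
    obtain ⟨e⟩ := mdl_of_quotient (sylowCent ht) hSab N c.t_mem_core c.t_mem c.t_central hN2
      (ne_one c.orderOf_t) h60 hXs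
    refine Or.inr (Or.inr (Or.inr (Or.inr ⟨inferInstance, JankoOneOrder.card_eq
      ⟨ht2, S, ht.1, fun s hs => (ht.2.2 s hs).eq⟩ e⟩)))
  -- otherwise there is a strongly embedded subgroup
  exfalso
  have hM : Subgroup.normalizer (F : Set G) ≠ ⊤ := by
    intro htop
    rcases (Subgroup.normalizer_eq_top_iff.1 htop).eq_bot_or_eq_top with h | h
    · exact hFbot h
    · have hle : F ≤ Subgroup.centralizer ((S : Subgroup G) : Set G) :=
        (Subgroup.closure_le _).2 fun x hx =>
          Subgroup.mem_centralizer_iff.2 fun s hs => (hx.2 s hs).eq.symm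
      exact normalizer_ne_top hG S
        (top_le_iff.1 ((h.ge.trans hle).trans (Subgroup.centralizer_le_normalizer _)))
  have hgen : ∀ g, (∀ x ∈ OS, g * x * g⁻¹ ∈ OS) → (∀ x ∈ OS, g⁻¹ * x * g ∈ OS) →
      g ∈ Subgroup.normalizer (F : Set G) := by
    intro g h1 h2
    have key : ∀ g : G, (∀ x ∈ OS, g * x * g⁻¹ ∈ OS) → ∀ x ∈ F, g * x * g⁻¹ ∈ F := fun g h1 x hx => by
      have : F ≤ F.comap (MulAut.conj g).toMonoidHom :=
        (Subgroup.closure_le _).2 fun a ha => Subgroup.subset_closure (h1 a ha)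
      exact this hx
    refine Subgroup.mem_normalizer_iff.2 fun x => ⟨key g h1 x, fun hx => ?_⟩
    have := key g⁻¹ (fun a ha => by simpa using h2 a ha) _ hx
    simpa [mul_assoc] using this
  have hle : ∀ v ∈ omega (S : Subgroup G), orderOf v = 2 →
      Subgroup.centralizer ({v} : Set G) ≤ Subgroup.normalizer (F : Set G) := by
    intro v hv hv2
    obtain ⟨k, hk⟩ := hcyc t ht v hv ht1 (ne_one hv2)
    intro g hg
    have hcon : ∀ g : G, Commute g v → ∀ x ∈ OS, g * x * g⁻¹ ∈ OS := by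
      intro g hg x hx
      have hg' : (y ^ k)⁻¹ * g * y ^ k ∈ C := mem_centralizer_iff_commute.2 (by
        have := commute_conj (y ^ k)⁻¹ hg
        rw [← hk] at this
        simpa [mul_assoc] using this)
      have h1 := hFy _ (pow_mem hy k) _ (hFt _ hg' _ (hFy _ (inv_mem (pow_mem hy k)) x hx))
      convert h1 using 1
      group
    have hg' := mem_centralizer_iff_commute.1 hg
    exact hgen g (hcon g hg') (fun x hx => by simpa using hcon g⁻¹ hg'.inv_left x hx)
  obtain ⟨M, hM'⟩ := Aschbacher.criterion_strongly_closed hA S (omega (S : Subgroup G))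
    (fun e => ne_one ht2 (Subgroup.mem_bot.1 (e ▸ ht))) (omega_stronglyClosed hR S)
    (ne_top_of_le_ne_top hM (iSup_le fun v => hle v v.2.1 v.2.2))
  have hsol := Bender.solvable_of_stronglyEmbedded Bender.rankOneHalf hM'
    (SuzukiRankOne.two_involutions_of_simple hM')
  obtain ⟨g, hg⟩ := exists_conj_mem hM' ht2
  haveI := hsol
  let ψ : C →* M :=
    { toFun := fun x => ⟨g⁻¹ * x * g, centralizer_le hM'
        (show orderOf (g⁻¹ * t * g) = 2 by
          have := Involution.orderOf_conj g⁻¹ t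
          rw [inv_inv] at this; rw [this, ht2]) hg (mem_centralizer_iff_commute.2 (by
          have := (mem_centralizer_iff_commute.1 x.2).map (MulAut.conj g⁻¹).toMonoidHom
          simpa [mul_assoc] using this))⟩
      map_one' := Subtype.ext (by simp)
      map_mul' := fun a b => Subtype.ext (by simp [mul_assoc]) }
  haveI : Group.IsSolvable C := Group.isSolvable_of_isSolvable_injective (f := ψ) fun a b e => by
    have e' : g⁻¹ * (a : G) * g = g⁻¹ * (b : G) * g := congrArg Subtype.val e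
    exact Subtype.ext (mul_left_cancel (mul_right_cancel e'))
  haveI : Group.IsSolvable (C ⧸ N) :=
    Group.isSolvable_of_surjective (QuotientGroup.mk'_surjective N)
  haveI := hXs
  letI : CommGroup (C ⧸ N) := { (inferInstance : Group (C ⧸ N)) with
    mul_comm := fun a b => IsSimpleGroup.comm_iff_isSolvable.2 inferInstance a b }
  have := IsSimpleGroup.prime_card (α := C ⧸ N)
  rw [h60] at this
  norm_num at this

/-- A non-abelian kernel is impossible. -/
theorem unitary_final (ht : t ∈ omega (S : Subgroup G))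
    (c : Config (sylowCent ht) (meetCent S t) (selfCent t)) {y : G}
    (hy : y ∈ Subgroup.normalizer ((S : Subgroup G) : Set G))
    (hcyc : ∀ v ∈ omega (S : Subgroup G), ∀ w ∈ omega (S : Subgroup G), v ≠ 1 → w ≠ 1 →
      ∃ k : ℕ, y ^ k * v * (y ^ k)⁻¹ = w)
    (hsquares : ∀ x : Subgroup.centralizer ({t} : Set G), x ∈ sylowCent ht →
      x * x ∈ (meetCent S t).normalCore → QuotientGroup.mk' (meetCent S t).normalCore x ∈
        Subgroup.map (QuotientGroup.mk' (meetCent S t).normalCore)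
          (omega (sylowCent ht : Subgroup (Subgroup.centralizer ({t} : Set G)))))
    (hg : ∃ g ∈ meetCent S t, (∃ a, g ^ (5 ^ a) = 1) ∧
      (∀ w ∈ omega (sylowCent ht : Subgroup (Subgroup.centralizer ({t} : Set G))), Commute g w) ∧
      ∀ x ∈ sylowCent ht, Commute (QuotientGroup.mk' (meetCent S t).normalCore g)
          (QuotientGroup.mk' (meetCent S t).normalCore x) →
        QuotientGroup.mk' (meetCent S t).normalCore x ∈
        Subgroup.map (QuotientGroup.mk' (meetCent S t).normalCore)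
          (omega (sylowCent ht : Subgroup (Subgroup.centralizer ({t} : Set G)))))
    (hroot : ∃ x ∈ sylowCent ht, ∃ w, Other (sylowCent ht) (selfCent t) w ∧
      QuotientGroup.mk' (meetCent S t).normalCore (x * x) =
        QuotientGroup.mk' (meetCent S t).normalCore w) : False := by
  classical
  haveI : Fact (Nat.Prime 2) := ⟨Nat.prime_two⟩
  set C := Subgroup.centralizer ({t} : Set G) with hCdef
  set N := (meetCent S t).normalCore with hNdef
  have ht1 : t ≠ 1 := fun e => ne_one c.orderOf_t (Subtype.ext e)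
  have hSC := sylow_le_cent ht
  set M := Subgroup.normalizer ((S : Subgroup G) : Set G) with hMdef
  set J : Set G := {g | g ∈ M ∧ (∃ a, g ^ (5 ^ a) = 1) ∧ ∀ w ∈ omega (S : Subgroup G), Commute g w}
    with hJ
  set T : Set G := {x | x ∈ S ∧ ∀ g ∈ J, Commute g x} with hT
  obtain ⟨g, hgH, ⟨a, hga⟩, hgZ, hgfix⟩ := hg
  have hgJ : (g : G) ∈ J := ⟨Subgroup.mem_subgroupOf.1 hgH,
    ⟨a, by rw [← Subgroup.coe_pow, hga]; rfl⟩, fun w hw =>
      congrArg Subtype.val (hgZ ⟨w, hSC hw.1⟩ ((mem_omega_sylowCent ht _).2 hw)).eq⟩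
  have hTy : ∀ x ∈ T, ∀ k : ℕ, y ^ k * x * (y ^ k)⁻¹ ∈ T := by
    rintro x ⟨hx, hxJ⟩ k
    refine ⟨conj_pow_mem ht c hy hx k, ?_⟩
    rintro j ⟨hjM, ⟨a, hja⟩, hjZ⟩
    have hjc : (y ^ k)⁻¹ * j * y ^ k ∈ J := by
      refine ⟨mul_mem (mul_mem (inv_mem (pow_mem hy k)) hjM) (pow_mem hy k), ⟨a, ?_⟩, fun w hw => ?_⟩
      · rw [show (y ^ k)⁻¹ * j * y ^ k = (y ^ k)⁻¹ * j * (y ^ k)⁻¹⁻¹ by rw [inv_inv], conj_pow, hja,
          mul_one, mul_inv_cancel]
      · have := commute_conj (y ^ k)⁻¹ (hjZ _ (conj_mem_omega (pow_mem hy k) hw))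
        simpa [mul_assoc] using this
    have := commute_conj (y ^ k) (hxJ _ hjc)
    simpa [mul_assoc] using this
  have hsq : ∀ x : C, (x : G) ∈ T → x * x ∈ N := by
    rintro x ⟨hx, hxJ⟩
    have hxg : Commute g x := Subtype.ext (hxJ _ hgJ).eq
    obtain ⟨w, hw, e⟩ := hgfix x ((mem_sylowCent ht x).2 hx) (hxg.map _)
    refine (QuotientGroup.eq_one_iff _).1 ?_
    show QuotientGroup.mk' N (x * x) = 1
    rw [map_mul, ← e, ← map_mul, hw.2.1, map_one]
  have hcont : ∀ x : C, x ∈ sylowCent ht → x ∈ N → (x : G) ∈ T := by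
    intro x hx hxN
    refine ⟨(mem_sylowCent ht x).1 hx, ?_⟩
    rintro j ⟨hjM, ⟨a, hja⟩, hjZ⟩
    set R := (sylowCent ht : Subgroup C) ⊓ N with hR
    set j' : C := ⟨j, mem_centralizer_iff_commute.2 (hjZ t ht)⟩ with hj'
    have hjH : j' ∈ meetCent S t := Subgroup.mem_subgroupOf.2 hjM
    have hjR : j' ∈ Subgroup.normalizer (R : Set C) := Subgroup.mem_normalizer_iff.2 fun r => by
      refine and_congr (Subgroup.mem_normalizer_iff.1 (c.le_normalizer hjH) r) ?_
      exact ⟨fun h => (inferInstance : N.Normal).conj_mem r h j', fun h => by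
        simpa [mul_assoc] using (inferInstance : N.Normal).conj_mem _ h j'⁻¹⟩
    have hRp : IsPGroup 2 R := (sylowCent ht).isPGroup'.to_le inf_le_left
    let α : MulAut R :=
      { toFun := fun r => ⟨j' * r * j'⁻¹, (Subgroup.mem_normalizer_iff.1 hjR _).1 r.2⟩
        invFun := fun r => ⟨j'⁻¹ * r * j', (Subgroup.mem_normalizer_iff''.1 hjR _).1 r.2⟩
        left_inv := fun r => Subtype.ext (by group)
        right_inv := fun r => Subtype.ext (by group)
        map_mul' := fun r s => Subtype.ext (by simp [mul_assoc]) }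
    have hpow : ∀ (n : ℕ) (r : R), (((α ^ n) r : R) : C) = j' ^ n * r * (j' ^ n)⁻¹ := by
      intro n
      induction n with
      | zero => intro r; simp
      | succ n ih =>
        intro r
        rw [pow_succ', MulAut.mul_apply]
        show j' * ((α ^ n) r : R) * j'⁻¹ = _
        rw [ih, pow_succ']; group
    have hα : α ^ (5 ^ a) = 1 := MulEquiv.ext fun r => Subtype.ext (by
      rw [hpow, show j' ^ (5 ^ a) = 1 from Subtype.ext (by rw [Subgroup.coe_pow]; exact hja),
        MulAut.one_apply, one_mul, inv_one, mul_one])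
    have h1 := eq_one_of_five hRp (fun r s hr hs => Subtype.ext (by
      rw [← Subgroup.orderOf_coe] at hr hs
      rw [c.eq_t hr r.2.2, c.eq_t hs s.2.2])) α hα
    have e : j' * x * j'⁻¹ = x :=
      congrArg (fun β : MulAut R => ((β ⟨x, hx, hxN⟩ : R) : C)) h1
    exact congrArg Subtype.val (mul_inv_eq_iff_eq_mul.1 e)
  have hmeet : ∀ {x : C}, x ∈ sylowCent ht → x ∈ N → x = 1 ∨ x = selfCent t := fun hx hxN =>
    core_meet ht c T (fun x hx => hx.1) hcyc hy hTy hsq hcont hx hxN
  obtain ⟨x, hx, w, hw, hxw⟩ := hroot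
  have h1 : (x * x)⁻¹ * w ∈ N := QuotientGroup.eq.1 hxw
  have hv : ∃ v : C, v ∈ omega (sylowCent ht : Subgroup C) ∧ v ≠ 1 ∧ x * x = v := by
    rcases hmeet (mul_mem (inv_mem (mul_mem hx hx)) hw.mem) h1 with e | e
    · exact ⟨w, hw.1, hw.2.1, inv_mul_eq_one.1 e⟩
    · refine ⟨w * selfCent t, mul_mem hw.1 ⟨c.t_mem, mul_self c.orderOf_t, fun s _ => c.t_central s⟩,
        fun h => hw.2.2 ((eq_inv_of_mul_eq_one_left h).trans (inv_eq c.orderOf_t)), ?_⟩
      rw [inv_mul_eq_iff_eq_mul] at e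
      rw [e, mul_assoc, mul_self c.orderOf_t, mul_one]
  obtain ⟨v, hv, hv1, hxv⟩ := hv
  obtain ⟨k, hk⟩ := hcyc v ((mem_omega_sylowCent ht v).1 hv) t ht (fun e => hv1 (Subtype.ext e)) ht1
  have hx'S := conj_pow_mem ht c hy ((mem_sylowCent ht x).1 hx) k
  set x' : C := ⟨_, hSC hx'S⟩ with hx'
  have hx'x : x' * x' = selfCent t := Subtype.ext (by
    show y ^ k * (x : G) * (y ^ k)⁻¹ * (y ^ k * (x : G) * (y ^ k)⁻¹) = t
    have hxv' : (x : G) * x = v := congrArg Subtype.val hxv
    calc y ^ k * (x : G) * (y ^ k)⁻¹ * (y ^ k * (x : G) * (y ^ k)⁻¹)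
        = y ^ k * ((x : G) * x) * (y ^ k)⁻¹ := by group
      _ = t := by rw [hxv', hk])
  have hx'P : x' ∈ sylowCent ht := (mem_sylowCent ht x').2 hx'S
  obtain ⟨w', hw', e⟩ := hsquares x' hx'P (hx'x ▸ c.t_mem_core)
  have hone : x' * x' = 1 := by
    rcases hmeet (mul_mem (inv_mem hw'.1) hx'P) (QuotientGroup.eq.1 e) with h | h
    · rw [← inv_mul_eq_one.1 h]; exact hw'.2.1
    · rw [inv_mul_eq_iff_eq_mul] at h
      exact h ▸ (mul_mem hw' ⟨c.t_mem, mul_self c.orderOf_t, fun s _ => c.t_central s⟩ :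
        w' * selfCent t ∈ omega (sylowCent ht : Subgroup C)).2.1
  exact ne_one c.orderOf_t (hx'x.symm.trans hone)

/-- S3185, given the pieces proved elsewhere. -/
theorem conclusion (hA : Aschbacher.CoreFreeCriterion.{u}) (hK : HalfClasses.KleinGW.{u})
    (hTI : Goldschmidt.ThreeInv.ThreeInvTarget.{u})
    (hG : ¬ IsMulCommutative G) (hR : RankOneMeet G) : Conclusion G := by
  classical
  haveI : Fact (Nat.Prime 2) := ⟨Nat.prime_two⟩
  obtain ⟨S⟩ : Nonempty (Sylow 2 G) := inferInstance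
  by_cases hsmall : Nat.card (omega (S : Subgroup G)) = 4 ∧
      ∀ x ∈ S, x * x = 1 → x ∈ omega (S : Subgroup G)
  · exact conclusion_of_four hK hTI hR hG S hsmall.1 hsmall.2
  by_cases hall : ∀ t ∈ omega (S : Subgroup G), orderOf t = 2 →
      Subgroup.centralizer ({t} : Set G) ≤ Subgroup.normalizer ((S : Subgroup G) : Set G)
  · obtain ⟨z, hz, hz2⟩ := exists_mem_omega S (sylow_ne_bot hG S)
    obtain ⟨H, hH⟩ := Aschbacher.criterion_strongly_closed hA S (omega (S : Subgroup G))
      (fun e => ne_one hz2 (Subgroup.mem_bot.1 (e ▸ hz))) (omega_stronglyClosed hR S)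
      (ne_top_of_le_ne_top (normalizer_ne_top hG S) (iSup_le fun t => hall t t.2.1 t.2.2))
    exact conclusion_of_stronglyEmbedded hH
  push Not at hall
  obtain ⟨t, ht, ht2, hnot⟩ := hall
  have c := mkConfig hR hG ht (ne_one ht2) hnot hsmall
  obtain ⟨h8, y, hy, hcyc⟩ := exists_cycle hA hR hG ht (ne_one ht2) c
  have h8' : Nat.card (omega (sylowCent ht : Subgroup (Subgroup.centralizer ({t} : Set G)))) = 8 := by
    rw [← h8]
    refine Nat.card_congr
      { toFun := fun x => ⟨((x : Subgroup.centralizer ({t} : Set G)) : G),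
          (mem_omega_sylowCent ht _).1 x.2⟩
        invFun := fun x => ⟨⟨x, sylow_le_cent ht (omega_le _ x.2)⟩, (mem_omega_sylowCent ht _).2 x.2⟩
        left_inv := fun x => rfl
        right_inv := fun x => rfl }
  obtain ⟨z, hz⟩ := c.exists_z
  obtain ⟨t', Q, h⟩ := c.exists_setup hA hz
  by_cases hab : IsMulCommutative Q
  · obtain ⟨h60, hXs, hPZ, hcent⟩ := c.abelian_case hA hz h h8' hab
    exact abelian_final hA hG hR ht c hy hcyc h60 hXs hPZ hcent
  · obtain ⟨hPQ, hg, hroot⟩ := c.unitary_case hA hz h h8' hab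
    exact (unitary_final ht c hy hcyc (fun x hx hxx => c.squares hA hz h hPQ hx hxx) hg hroot).elim

end Cfsg.Agent.CentralMeet
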