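/-
S3185 from the three involution theorem (owner: helper56).

* `of_threeInv` : the statement of S3185, given `ThreeInvTarget`.
-/
import Cfsg.Agent.Lib.CentralMeet.Final
import Cfsg.Agent.Lib.Aschbacher.CriterionL2Final
import Cfsg.Agent.Lib.GWKlein.General.Main

set_option autoImplicit false

namespace Cfsg.Agent.CentralMeet

universe u

theorem of_threeInv (hTI : Goldschmidt.ThreeInv.ThreeInvTarget.{u}) {G : Type u} [Group G] [Finite G]
    [IsSimpleGroup G] (hG : ¬ IsMulCommutative G) (hR : RankOneMeet G) : Conclusion G :=
  conclusion Aschbacher.coreFreeCriterion GWKlein.kleinGW hTI hG hR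

end Cfsg.Agent.CentralMeet
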